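import Mathlib

/-!
Evaluation of the transfer into an abelian quotient of `H` on an element with controlled conjugates.
-/

set_option autoImplicit false

namespace Cfsg.Agent.Lib.SECount

open MulAction Subgroup in
/-- If conjugates of powers of `g ∈ H` lying in `H` have the same image under `φ` as those powers,
the transfer of `φ` sends `g` to `φ g ^ [G : H]`. -/
theorem transfer_eq_map_pow {G A : Type*} [Group G] [CommGroup A] {H : Subgroup G}
    [H.FiniteIndex] (φ : H →* A) {g : G} (hg : g ∈ H)
    (key : ∀ (k : ℕ) (g₀ : G) (hk : g₀⁻¹ * g ^ k * g₀ ∈ H), φ ⟨_, hk⟩ = φ ⟨g, hg⟩ ^ k) :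
    MonoidHom.transfer φ g = φ ⟨g, hg⟩ ^ H.index := by
  classical
  let := H.fintypeQuotientOfFiniteIndex
  rw [MonoidHom.transfer_eq_prod_quotient_orbitRel_zpowers_quot,
    Finset.prod_congr rfl fun q _ => key _ _ _, Finset.prod_pow_eq_pow_sum,
    ← index_eq_sum_minimalPeriod H g]

end Cfsg.Agent.Lib.SECount
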