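import Mathlib
import Cfsg.Prelude.Def_Involutions

/-!
Involution counting for a strongly embedded subgroup `H`: for an involution `t ∈ H` the map
`w ↦ w t w⁻¹` is a bijection of the involutions outside `H`; it restricts to bijections from the
involutions of a coset `gH` to the involutions of `gHg⁻¹`.
-/

set_option autoImplicit false

namespace Cfsg.Agent.Lib.SECount

variable {G : Type*} [Group G]

theorem invo_sq {x : G} (hx : orderOf x = 2) : x * x = 1 := by
  rw [← pow_two, ← hx, pow_orderOf_eq_one]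

theorem invo_inv {x : G} (hx : orderOf x = 2) : x⁻¹ = x :=
  inv_eq_of_mul_eq_one_right (invo_sq hx)

theorem invo_ne_one {x : G} (hx : orderOf x = 2) : x ≠ 1 := fun h => by simp [h] at hx

theorem invo_of_sq {x : G} (h1 : x ≠ 1) (h2 : x * x = 1) : orderOf x = 2 :=
  orderOf_eq_prime (by rwa [pow_two]) h1

theorem orderOf_conj_eq (g x : G) : orderOf (g * x * g⁻¹) = orderOf x :=
  MulEquiv.orderOf_eq (MulAut.conj g) x

theorem mem_map_conj {H : Subgroup G} {g x : G} :
    x ∈ H.map (MulAut.conj g).toMonoidHom ↔ g⁻¹ * x * g ∈ H :=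
  (Subgroup.mem_map_equiv).trans (by rw [MulAut.conj_symm_apply])

variable {H : Subgroup G}

/-- An involution of `H` has all its conjugates in `H` effected by elements of `H`. -/
theorem mem_of_conj_mem [Finite G] (hH : Cfsg.IsStronglyEmbedded H) {t g : G}
    (ht : orderOf t = 2) (htH : t ∈ H) (hg : g * t * g⁻¹ ∈ H) : g ∈ H := by
  by_contra hgH
  have hgi : g⁻¹ ∉ H := fun h => hgH (by simpa using H.inv_mem h)
  have hmem : t ∈ H ⊓ H.map (MulAut.conj g⁻¹).toMonoidHom :=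
    ⟨htH, mem_map_conj.2 (by simpa using hg)⟩
  have hdvd := orderOf_dvd_natCard (⟨t, hmem⟩ : ↥(H ⊓ H.map (MulAut.conj g⁻¹).toMonoidHom))
  rw [Subgroup.orderOf_mk, ht] at hdvd
  exact (Nat.not_even_iff_odd.2 (hH.2.2 g⁻¹ hgi)) (even_iff_two_dvd.2 hdvd)

theorem mem_of_commute [Finite G] (hH : Cfsg.IsStronglyEmbedded H) {t g : G}
    (ht : orderOf t = 2) (htH : t ∈ H) (hg : g * t = t * g) : g ∈ H :=
  mem_of_conj_mem hH ht htH (by rw [hg, mul_inv_cancel_right]; exact htH)

theorem centralizer_le [Finite G] (hH : Cfsg.IsStronglyEmbedded H) {t : G}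
    (ht : orderOf t = 2) (htH : t ∈ H) : Subgroup.centralizer ({t} : Set G) ≤ H :=
  fun _ hg => mem_of_commute hH ht htH (Subgroup.mem_centralizer_singleton_iff.1 hg)

theorem exists_invo_mem [Finite G] (hH : Cfsg.IsStronglyEmbedded H) :
    ∃ t : G, orderOf t = 2 ∧ t ∈ H := by
  obtain ⟨x, hx⟩ := exists_prime_orderOf_dvd_card' (G := H) 2 (even_iff_two_dvd.1 hH.2.1)
  exact ⟨x, (Subgroup.orderOf_coe x).trans hx, x.2⟩

theorem exists_invo_not_mem [Finite G] (hH : Cfsg.IsStronglyEmbedded H) :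
    ∃ u : G, orderOf u = 2 ∧ u ∉ H := by
  obtain ⟨t, ht, htH⟩ := exists_invo_mem hH
  obtain ⟨g, hg⟩ : ∃ g : G, g ∉ H := by
    by_contra h
    exact hH.1 (eq_top_iff.2 fun g _ => not_not.1 (not_exists.1 h g))
  exact ⟨g * t * g⁻¹, (orderOf_conj_eq g t).trans ht, fun h => hg (mem_of_conj_mem hH ht htH h)⟩

/-- An involution of `H` and one outside are conjugate by an involution outside `H`. -/
theorem exists_invo_conj [Finite G] (hH : Cfsg.IsStronglyEmbedded H) {t v : G}
    (ht : orderOf t = 2) (htH : t ∈ H) (hv : orderOf v = 2) (hvH : v ∉ H) :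
    ∃ w : G, orderOf w = 2 ∧ w ∉ H ∧ w * t * w⁻¹ = v := by
  have htt := invo_sq ht
  have hvv := invo_sq hv
  have hconj : ∀ i : ℕ, t * (t * v) ^ i * t⁻¹ = ((t * v) ^ i)⁻¹ := by
    intro i
    rw [← conj_pow, ← inv_pow]
    congr 1
    rw [invo_inv ht, mul_inv_rev, invo_inv ht, invo_inv hv, ← mul_assoc, htt, one_mul]
  obtain hev | ⟨l, hl⟩ := Nat.even_or_odd (orderOf (t * v))
  · exfalso
    obtain ⟨k, hk⟩ := hev
    have hpos := orderOf_pos (t * v)
    have hz1 : (t * v) ^ k ≠ 1 := pow_ne_one_of_lt_orderOf (by omega) (by omega)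
    have hz2 : (t * v) ^ k * (t * v) ^ k = 1 := by rw [← pow_add, ← hk, pow_orderOf_eq_one]
    have hz := invo_of_sq hz1 hz2
    have hzt : (t * v) ^ k * t = t * (t * v) ^ k := by
      have h := hconj k
      rw [invo_inv hz, mul_inv_eq_iff_eq_mul] at h
      exact h.symm
    have hzd : (t * v) ^ k * (t * v) = (t * v) * (t * v) ^ k := (Commute.pow_self _ k).eq
    have hzv : v * (t * v) ^ k = (t * v) ^ k * v := by
      apply mul_left_cancel (a := t)
      rw [← mul_assoc, ← hzd, ← mul_assoc, hzt, mul_assoc]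
    exact hvH (mem_of_commute hH hz (mem_of_commute hH ht htH hzt) hzv)
  · have hww : t * (t * v) ^ (l + 1) * (t * (t * v) ^ (l + 1)) = 1 := by
      have h := hconj (l + 1)
      rw [invo_inv ht] at h
      rw [← mul_assoc, h, inv_mul_cancel]
    have hwt : t * (t * v) ^ (l + 1) * t * (t * (t * v) ^ (l + 1))⁻¹ = v := by
      rw [inv_eq_of_mul_eq_one_right hww]
      calc t * (t * v) ^ (l + 1) * t * (t * (t * v) ^ (l + 1))
          = t * ((t * v) ^ (l + 1) * (t * t) * (t * v) ^ (l + 1)) := by simp only [mul_assoc]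
        _ = t * (t * v) ^ (orderOf (t * v) + 1) := by
            rw [htt, mul_one, ← pow_add]; congr 2; omega
        _ = v := by rw [pow_succ, pow_orderOf_eq_one, one_mul, ← mul_assoc, htt, one_mul]
    have hwH : t * (t * v) ^ (l + 1) ∉ H := fun h =>
      hvH (hwt ▸ H.mul_mem (H.mul_mem h htH) (H.inv_mem h))
    exact ⟨_, invo_of_sq (fun h => hwH (by rw [h]; exact H.one_mem)) hww, hwH, hwt⟩

/-- For an involution `t ∈ H`, the map `w ↦ w t w⁻¹` is injective on involutions outside `H`. -/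
theorem conj_injective [Finite G] (hH : Cfsg.IsStronglyEmbedded H) {t w w' : G}
    (ht : orderOf t = 2) (htH : t ∈ H) (hw : orderOf w = 2) (hwH : w ∉ H)
    (hw' : orderOf w' = 2) (hwH' : w' ∉ H) (h : w * t * w⁻¹ = w' * t * w'⁻¹) : w = w' := by
  let f : {i : G // orderOf i = 2 ∧ i ∉ H} → {i : G // orderOf i = 2 ∧ i ∉ H} := fun i =>
    ⟨i.1 * t * i.1⁻¹, (orderOf_conj_eq _ _).trans ht,
      fun hh => i.2.2 (mem_of_conj_mem hH ht htH hh)⟩
  have hsurj : Function.Surjective f := by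
    rintro ⟨v, hv, hvH⟩
    obtain ⟨i, hi, hiH, hit⟩ := exists_invo_conj hH ht htH hv hvH
    exact ⟨⟨i, hi, hiH⟩, Subtype.ext hit⟩
  exact congrArg Subtype.val
    (Finite.injective_iff_surjective.2 hsurj (a₁ := ⟨w, hw, hwH⟩) (a₂ := ⟨w', hw', hwH'⟩)
      (Subtype.ext h))

/-- No nontrivial element of `H` inverted by an involution outside `H` centralizes an involution
of `H`. -/
theorem eq_one_of_inverted [Finite G] (hH : Cfsg.IsStronglyEmbedded H) {t w c : G}
    (ht : orderOf t = 2) (htH : t ∈ H) (hw : orderOf w = 2) (hwH : w ∉ H) (hc : c ∈ H)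
    (hinv : w * c * w⁻¹ = c⁻¹) (hcomm : c * t = t * c) : c = 1 := by
  have hwc : w * c * (w * c) = 1 := by
    rw [invo_inv hw] at hinv
    rw [← mul_assoc, hinv, inv_mul_cancel]
  have hwcH : w * c ∉ H := fun h => hwH (by simpa using H.mul_mem h (H.inv_mem hc))
  have := conj_injective hH ht htH (invo_of_sq (fun h => hwcH (by rw [h]; exact H.one_mem)) hwc) hwcH hw hwH
    (by rw [mul_inv_rev, mul_assoc w c t, hcomm]; group)
  simpa using this

/-- The involutions in the coset `gH` correspond bijectively to the involutions of `gHg⁻¹`. -/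
theorem card_coset_invo [Finite G] (hH : Cfsg.IsStronglyEmbedded H) {g : G} (hg : g ∉ H) :
    Nat.card {i : G // orderOf i = 2 ∧ g⁻¹ * i ∈ H} =
      Nat.card {t : G // orderOf t = 2 ∧ t ∈ H} := by
  obtain ⟨t, ht, htH⟩ := exists_invo_mem hH
  have hout : ∀ i : G, g⁻¹ * i ∈ H → i ∉ H := fun i hi hiH =>
    hg (by simpa using H.mul_mem hiH (H.inv_mem hi))
  let f : {i : G // orderOf i = 2 ∧ g⁻¹ * i ∈ H} → {t : G // orderOf t = 2 ∧ t ∈ H} := fun i =>
    ⟨(g⁻¹ * i.1) * t * (g⁻¹ * i.1)⁻¹, (orderOf_conj_eq _ _).trans ht,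
      H.mul_mem (H.mul_mem i.2.2 htH) (H.inv_mem i.2.2)⟩
  refine Nat.card_eq_of_bijective f ⟨?_, ?_⟩
  · rintro ⟨i, hi, hig⟩ ⟨j, hj, hjg⟩ h
    have h' := congrArg Subtype.val h
    simp only [f, mul_inv_rev, inv_inv, mul_assoc] at h'
    refine Subtype.ext (conj_injective hH ht htH hi (hout i hig) hj (hout j hjg) ?_)
    have := mul_left_cancel h'
    simp only [← mul_assoc] at this
    exact mul_right_cancel this
  · rintro ⟨s, hs, hsH⟩
    have hv : g * s * g⁻¹ ∉ H := fun h => hg (mem_of_conj_mem hH hs hsH h)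
    obtain ⟨w, hw, hwH, hwt⟩ := exists_invo_conj hH ht htH ((orderOf_conj_eq g s).trans hs) hv
    have e : (g⁻¹ * w) * t * (g⁻¹ * w)⁻¹ = s := by
      rw [mul_inv_rev, inv_inv]
      calc g⁻¹ * w * t * (w⁻¹ * g) = g⁻¹ * (w * t * w⁻¹) * g := by simp only [mul_assoc]
        _ = s := by rw [hwt]; group
    exact ⟨⟨w, hw, mem_of_conj_mem hH ht htH (by rw [e]; exact hsH)⟩, Subtype.ext e⟩

/-- `D = H ∩ uHu⁻¹` is transitive on the involutions of `H`. -/
theorem exists_conj_mem_inf [Finite G] (hH : Cfsg.IsStronglyEmbedded H) {u s t : G}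
    (hu : orderOf u = 2) (huH : u ∉ H) (hs : orderOf s = 2) (hsH : s ∈ H) (ht : orderOf t = 2)
    (htH : t ∈ H) : ∃ d ∈ H ⊓ H.map (MulAut.conj u).toMonoidHom, d * s * d⁻¹ = t := by
  have hv : u * t * u⁻¹ ∉ H := fun h => huH (mem_of_conj_mem hH ht htH h)
  obtain ⟨w, hw, hwH, hws⟩ := exists_invo_conj hH hs hsH ((orderOf_conj_eq u t).trans ht) hv
  have hconj : u * w * s * (u * w)⁻¹ = t := by
    calc u * w * s * (u * w)⁻¹ = u * (w * s * w⁻¹) * u⁻¹ := by group
      _ = (u * u) * t * (u * u)⁻¹ := by rw [hws]; group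
      _ = t := by rw [invo_sq hu]; simp
  have hd : u * w ∈ H := mem_of_conj_mem hH hs hsH (by rw [hconj]; exact htH)
  refine ⟨u * w, ⟨hd, mem_map_conj.2 ?_⟩, hconj⟩
  have he : u⁻¹ * (u * w) * u = (u * w)⁻¹ := by rw [mul_inv_rev, invo_inv hw, invo_inv hu, ← mul_assoc, invo_sq hu, one_mul]
  rw [he]
  exact H.inv_mem hd

theorem isConj_invo [Finite G] (hH : Cfsg.IsStronglyEmbedded H) {a b : G} (ha : orderOf a = 2)
    (hb : orderOf b = 2) : IsConj a b := by
  obtain ⟨t, ht, htH⟩ := exists_invo_mem hH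
  obtain ⟨u, hu, huH⟩ := exists_invo_not_mem hH
  have key : ∀ v : G, orderOf v = 2 → IsConj t v := by
    intro v hv
    by_cases hvH : v ∈ H
    · obtain ⟨d, -, hd⟩ := exists_conj_mem_inf hH hu huH ht htH hv hvH
      exact isConj_iff.2 ⟨d, hd⟩
    · obtain ⟨w, -, -, hw⟩ := exists_invo_conj hH ht htH hv hvH
      exact isConj_iff.2 ⟨w, hw⟩
  exact (key a ha).symm.trans (key b hb)

/-- Exactly `k` involutions interchange two given points. -/
theorem card_smul_invo [Finite G] (hH : Cfsg.IsStronglyEmbedded H) (x y : G ⧸ H) (hxy : x ≠ y) :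
    Nat.card {i : G // orderOf i = 2 ∧ i • x = y} =
      Nat.card {t : G // orderOf t = 2 ∧ t ∈ H} := by
  obtain ⟨a, rfl⟩ := QuotientGroup.mk_surjective x
  obtain ⟨b, rfl⟩ := QuotientGroup.mk_surjective y
  have hg : a⁻¹ * b ∉ H := fun h => hxy (QuotientGroup.eq.2 h)
  rw [← card_coset_invo hH hg]
  refine Nat.card_congr ((MulAut.conj a⁻¹).toEquiv.subtypeEquiv fun i => ?_)
  simp only [MulEquiv.toEquiv_eq_coe, MulEquiv.coe_toEquiv, EquivLike.coe_coe, MulAut.conj_apply]
  rw [orderOf_conj_eq,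
    show (a⁻¹ * b)⁻¹ * (a⁻¹ * i * (a⁻¹)⁻¹) = (b⁻¹ * (i * a)) by group]
  refine and_congr_right fun _ => ?_
  rw [MulAction.Quotient.smul_mk, smul_eq_mul, eq_comm, QuotientGroup.eq]

end Cfsg.Agent.Lib.SECount
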