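import Mathlib

/-!
Klein four-subgroups of a dihedral group `DihedralGroup m`, `m` even: they are the centralizers
`{1, z, sr i, z * sr i}` of the reflections, where `z = r (m / 2)`.
-/

set_option autoImplicit false

namespace Cfsg.Agent.Lib.SECount

open DihedralGroup

variable {m : ℕ}

/-- `m / 2` as an element of `ZMod m`. -/
def zhalf (m : ℕ) : ZMod m := ((m / 2 : ℕ) : ZMod m)

theorem zhalf_add_self (hm : 2 ∣ m) : zhalf m + zhalf m = 0 := by
  rw [zhalf, ← Nat.cast_add, ← two_mul, Nat.mul_div_cancel' hm, ZMod.natCast_self]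

theorem zhalf_ne_zero [NeZero m] (hm : 2 ∣ m) : zhalf m ≠ 0 := by
  intro h
  rw [zhalf, ZMod.natCast_eq_zero_iff] at h
  have h1 := NeZero.pos m
  have h2 := Nat.le_of_dvd (by omega) h
  omega

theorem eq_zero_or_zhalf [NeZero m] {x : ZMod m} (hx : x + x = 0) : x = 0 ∨ x = zhalf m := by
  have hv := ZMod.val_add x x
  rw [hx, ZMod.val_zero] at hv
  obtain ⟨k, hk⟩ : m ∣ x.val + x.val := Nat.dvd_of_mod_eq_zero hv.symm
  have hlt := ZMod.val_lt x
  rcases k with _ | _ | k
  · exact Or.inl ((ZMod.val_eq_zero x).1 (by omega))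
  · refine Or.inr ((ZMod.natCast_zmod_val x).symm.trans ?_)
    rw [zhalf]
    congr 1
    omega
  · nlinarith

/-- The central involution of `DihedralGroup m`. -/
def dihInv (m : ℕ) : DihedralGroup m := r (zhalf m)

/-- The four-subgroup containing the reflection `sr i`. -/
def fourD (m : ℕ) (i : ZMod m) : Subgroup (DihedralGroup m) :=
  Subgroup.centralizer ({sr i} : Set (DihedralGroup m))

theorem dihInv_commute (hm : 2 ∣ m) (g : DihedralGroup m) : Commute (dihInv m) g := by
  have h := zhalf_add_self hm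
  cases g with
  | r k => simp only [Commute, SemiconjBy, dihInv, r_mul_r]; rw [add_comm]
  | sr k =>
    simp only [Commute, SemiconjBy, dihInv, r_mul_sr, sr_mul_r]
    congr 1
    linear_combination -h

theorem orderOf_dihInv [NeZero m] (hm : 2 ∣ m) : orderOf (dihInv m) = 2 :=
  orderOf_eq_prime (by rw [pow_two, dihInv, r_mul_r, zhalf_add_self hm]; rfl)
    (by rw [dihInv, DihedralGroup.one_def, ne_eq, r.injEq]; exact zhalf_ne_zero hm)

theorem r_mem_fourD_iff [NeZero m] (hm : 2 ∣ m) {i k : ZMod m} :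
    r k ∈ fourD m i ↔ k = 0 ∨ k = zhalf m := by
  rw [fourD, Subgroup.mem_centralizer_singleton_iff, r_mul_sr, sr_mul_r, sr.injEq]
  refine ⟨fun h => eq_zero_or_zhalf (by linear_combination -h), ?_⟩
  rintro (rfl | rfl)
  · simp
  · linear_combination -(zhalf_add_self hm)

theorem sr_mem_fourD_iff [NeZero m] (hm : 2 ∣ m) {i k : ZMod m} :
    sr k ∈ fourD m i ↔ k = i ∨ k = i + zhalf m := by
  rw [fourD, Subgroup.mem_centralizer_singleton_iff, sr_mul_sr, sr_mul_sr, r.injEq]
  refine ⟨fun h => ?_, ?_⟩
  · rcases eq_zero_or_zhalf (x := k - i) (by linear_combination -h) with h' | h'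
    · exact Or.inl (sub_eq_zero.1 h')
    · exact Or.inr (by rw [← h']; ring)
  · rintro (rfl | rfl)
    · rfl
    · linear_combination -(zhalf_add_self hm)

theorem mem_fourD_iff [NeZero m] (hm : 2 ∣ m) {i : ZMod m} {g : DihedralGroup m} :
    g ∈ fourD m i ↔ g = 1 ∨ g = dihInv m ∨ g = sr i ∨ g = sr (i + zhalf m) := by
  cases g with
  | r k => rw [r_mem_fourD_iff hm]; simp [dihInv, DihedralGroup.one_def, -r_zero]
  | sr k => rw [sr_mem_fourD_iff hm]; simp [dihInv, DihedralGroup.one_def, -r_zero]

theorem card_fourD [NeZero m] (hm : 2 ∣ m) (i : ZMod m) : Nat.card (fourD m i) = 4 := by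
  classical
  have h := zhalf_ne_zero hm
  have he : (fourD m i : Set (DihedralGroup m)) =
      (↑({1, dihInv m, sr i, sr (i + zhalf m)} : Finset (DihedralGroup m))) := by
    ext g; simp [mem_fourD_iff hm]
  rw [← SetLike.coe_sort_coe, Nat.card_coe_set_eq, he, Set.ncard_coe_finset]
  rw [Finset.card_insert_of_notMem, Finset.card_insert_of_notMem, Finset.card_pair]
  · simp [h]
  · simp [dihInv]
  · simp [dihInv, DihedralGroup.one_def, -r_zero, Ne.symm h]

theorem isKleinFour_fourD [NeZero m] (hm : 2 ∣ m) (i : ZMod m) : IsKleinFour (fourD m i) where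
  card_four := card_fourD hm i
  exponent_two := by
    have hsq : ∀ g : fourD m i, g ^ 2 = 1 := by
      rintro ⟨g, hg⟩
      refine Subtype.ext ?_
      rcases (mem_fourD_iff hm).1 hg with rfl | rfl | rfl | rfl
      · exact one_pow 2
      · exact (orderOf_dihInv hm) ▸ pow_orderOf_eq_one (dihInv m)
      · exact (pow_two _).trans (sr_mul_self _)
      · exact (pow_two _).trans (sr_mul_self _)
    haveI : Nontrivial (fourD m i) := Finite.one_lt_card_iff_nontrivial.1 (by rw [card_fourD hm]; norm_num)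
    exact (Monoid.exponent_eq_prime_iff Nat.prime_two).2 fun g hg =>
      orderOf_eq_prime (hsq g) hg

theorem exists_eq_fourD [NeZero m] (hm : 2 ∣ m) (K : Subgroup (DihedralGroup m)) [IsKleinFour K] :
    ∃ i, K = fourD m i := by
  classical
  have h4 : Nat.card K = 4 := IsKleinFour.card_four
  obtain ⟨i, hi⟩ : ∃ i, sr i ∈ K := by
    by_contra h
    push Not at h
    have hsub : (K : Set (DihedralGroup m)) ⊆ {1, dihInv m} := by
      intro g hg
      cases g with
      | sr k => exact absurd hg (h k)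
      | r k =>
        have h2 : (⟨r k, hg⟩ : K) * ⟨r k, hg⟩ = 1 := IsKleinFour.mul_self _
        have h3 : k + k = 0 := r.inj (congrArg Subtype.val h2)
        rcases eq_zero_or_zhalf h3 with rfl | rfl
        · exact Or.inl rfl
        · exact Or.inr rfl
    have := (Set.ncard_le_ncard hsub).trans (Set.ncard_insert_le _ _)
    rw [← Nat.card_coe_set_eq, SetLike.coe_sort_coe, h4, Set.ncard_singleton] at this
    omega
  refine ⟨i, Subgroup.eq_of_le_of_card_ge (fun g hg => ?_) (by rw [card_fourD hm, h4])⟩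
  rw [fourD, Subgroup.mem_centralizer_singleton_iff]
  exact congrArg Subtype.val (mul_comm_of_exponent_two IsKleinFour.exponent_two
    (⟨g, hg⟩ : K) ⟨sr i, hi⟩)

theorem map_conj_fourD (t : DihedralGroup m) (i j : ZMod m) (h : t * sr i * t⁻¹ = sr j) :
    (fourD m i).map (MulAut.conj t).toMonoidHom = fourD m j := by
  ext g
  rw [Subgroup.mem_map_equiv, fourD, fourD, Subgroup.mem_centralizer_singleton_iff,
    Subgroup.mem_centralizer_singleton_iff, MulAut.conj_symm_apply, ← h]
  constructor <;> intro hg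
  · calc g * (t * sr i * t⁻¹) = t * ((t⁻¹ * g * t) * sr i) * t⁻¹ := by group
      _ = t * sr i * t⁻¹ * g := by rw [hg]; group
  · calc t⁻¹ * g * t * sr i = t⁻¹ * (g * (t * sr i * t⁻¹)) * t := by group
      _ = sr i * (t⁻¹ * g * t) := by rw [hg]; group

theorem r_conj_sr (j i : ZMod m) : r j * sr i * (r j)⁻¹ = sr (i - 2 * j) := by
  rw [r_mul_sr, inv_r, sr_mul_r]; congr 1; ring

/-- Up to conjugation there are only two four-subgroups. -/
theorem exists_conj_fourD [NeZero m] (i : ZMod m) :
    ∃ t : DihedralGroup m, (fourD m i).map (MulAut.conj t).toMonoidHom = fourD m 0 ∨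
      (fourD m i).map (MulAut.conj t).toMonoidHom = fourD m 1 := by
  refine ⟨r ((i.val / 2 : ℕ) : ZMod m), ?_⟩
  have hi : i = ((i.val % 2 : ℕ) : ZMod m) + 2 * ((i.val / 2 : ℕ) : ZMod m) := by
    have h2 : ((i.val % 2 + 2 * (i.val / 2) : ℕ) : ZMod m) = i := by
      rw [Nat.mod_add_div, ZMod.natCast_zmod_val]
    push_cast at h2
    exact h2.symm
  rcases Nat.mod_two_eq_zero_or_one i.val with h | h <;> rw [h] at hi
  · exact Or.inl (map_conj_fourD _ _ _ (by rw [r_conj_sr]; congr 1; linear_combination hi))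
  · refine Or.inr (map_conj_fourD _ _ _ (by rw [r_conj_sr]; congr 1; push_cast at hi; linear_combination hi))

theorem zhalf_castHom (hm : 4 ∣ m) :
    ZMod.castHom ((show (2 : ℕ) ∣ 4 by norm_num).trans hm) (ZMod 2) (zhalf m) = 0 := by
  rw [zhalf, map_natCast, ZMod.natCast_eq_zero_iff]
  obtain ⟨l, rfl⟩ := hm
  exact ⟨l, by omega⟩

/-- The two classes of four-subgroups differ. -/
theorem not_conj_fourD [NeZero m] (hm : 4 ∣ m) (t : DihedralGroup m) :
    (fourD m 0).map (MulAut.conj t).toMonoidHom ≠ fourD m 1 := by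
  have h2 : 2 ∣ m := (show (2 : ℕ) ∣ 4 by norm_num).trans hm
  intro h
  have hmem : t * sr 0 * t⁻¹ ∈ fourD m 1 := h ▸ ⟨sr 0, (sr_mem_fourD_iff h2).2 (Or.inl rfl), rfl⟩
  let φ := ZMod.castHom h2 (ZMod 2)
  have hφh : φ (zhalf m) = 0 := zhalf_castHom hm
  have hdouble : ∀ x : ZMod 2, x + x = 0 := by decide
  have key : ∃ c : ZMod m, φ c = 0 ∧ t * sr 0 * t⁻¹ = sr c := by
    cases t with
    | r j =>
      refine ⟨0 - 2 * j, ?_, r_conj_sr j 0⟩
      rw [map_sub, map_mul, map_zero, show φ 2 = 0 from by rw [map_ofNat]; rfl]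
      simp
    | sr j =>
      refine ⟨j + j, by rw [map_add, hdouble], ?_⟩
      rw [sr_mul_sr, inv_sr, r_mul_sr]
      congr 1; ring
  obtain ⟨c, hc, hc'⟩ := key
  rw [hc', sr_mem_fourD_iff h2] at hmem
  rcases hmem with rfl | rfl <;> simp [hφh] at hc

/-- A quarter turn normalises every four-subgroup. -/
theorem exists_normalizer_fourD [NeZero m] (hm : 4 ∣ m) (i : ZMod m) :
    ∃ t ∈ Subgroup.normalizer (fourD m i : Set (DihedralGroup m)), t ∉ fourD m i ∧
      t * sr i ≠ sr i * t ∧ t * sr (i + zhalf m) ≠ sr (i + zhalf m) * t := by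
  have h2 : 2 ∣ m := (show (2 : ℕ) ∣ 4 by norm_num).trans hm
  set l : ZMod m := ((m / 4 : ℕ) : ZMod m)
  have hl : l + l = zhalf m := by
    rw [zhalf, ← Nat.cast_add]; congr 1
    obtain ⟨k, rfl⟩ := hm
    omega
  have hh := zhalf_add_self h2
  have hne := zhalf_ne_zero h2
  have hmap : (fourD m i).map (MulAut.conj (r l)).toMonoidHom = fourD m i := by
    rw [map_conj_fourD (r l) i (i - 2 * l) (r_conj_sr l i), show i - 2 * l = i + zhalf m by
      linear_combination -hl - hh]
    ext g
    rw [mem_fourD_iff h2, mem_fourD_iff h2, add_assoc, hh, add_zero]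
    tauto
  refine ⟨r l, ?_, ?_, ?_, ?_⟩
  · rw [Subgroup.mem_normalizer_iff]
    intro g
    conv_rhs => rw [← hmap, Subgroup.mem_map_equiv, MulAut.conj_symm_apply]
    rw [show (r l)⁻¹ * (r l * g * (r l)⁻¹) * r l = g by group]
  · rw [r_mem_fourD_iff h2]
    rintro (h | h)
    · exact hne (by rw [← hl, h, add_zero])
    · exact hne (by rw [h, hh] at hl; exact hl.symm)
  · rw [r_mul_sr, sr_mul_r, ne_eq, sr.injEq]
    exact fun h => hne (by linear_combination -h - hl)
  · rw [r_mul_sr, sr_mul_r, ne_eq, sr.injEq]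
    exact fun h => hne (by linear_combination -h - hl)

/-- The normaliser of a four-subgroup has order at most 8. -/
theorem card_normalizer_fourD [NeZero m] (hm : 2 ∣ m) (i : ZMod m) :
    Nat.card (Subgroup.normalizer (fourD m i : Set (DihedralGroup m))) ≤ 8 := by
  set N := Subgroup.normalizer (fourD m i : Set (DihedralGroup m))
  have him : ∀ g : N, (g : DihedralGroup m) * sr i * (g : DihedralGroup m)⁻¹ = sr i ∨
      (g : DihedralGroup m) * sr i * (g : DihedralGroup m)⁻¹ = sr (i + zhalf m) := by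
    intro g
    have h := (Subgroup.mem_normalizer_iff.1 g.2 (sr i)).1 ((sr_mem_fourD_iff hm).2 (Or.inl rfl))
    rcases (mem_fourD_iff hm).1 h with h1 | h1 | h1 | h1
    · exfalso
      rw [mul_inv_eq_one, mul_eq_left] at h1
      simp [DihedralGroup.one_def, -r_zero] at h1
    · exfalso
      have h3 : sr i = dihInv m := by
        calc sr i = (g : DihedralGroup m)⁻¹ * ((g : DihedralGroup m) * sr i * (g : DihedralGroup m)⁻¹)
              * g := by group
          _ = dihInv m := by rw [h1, mul_assoc, (dihInv_commute hm _).eq, inv_mul_cancel_left]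
      exact absurd h3 (by simp [dihInv])
    · exact Or.inl h1
    · exact Or.inr h1
  have hidx : ((fourD m i).subgroupOf N).index ≤ 2 := by
    let f : N ⧸ (fourD m i).subgroupOf N → Bool := fun q => decide
      ((q.out : DihedralGroup m) * sr i * (q.out : DihedralGroup m)⁻¹ = sr i)
    have hf : Function.Injective f := by
      intro a b hab
      have heq : (a.out : DihedralGroup m) * sr i * (a.out : DihedralGroup m)⁻¹ =
          (b.out : DihedralGroup m) * sr i * (b.out : DihedralGroup m)⁻¹ := by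
        simp only [f, decide_eq_decide] at hab
        rcases him a.out with ha | ha
        · rw [ha, hab.1 ha]
        · rcases him b.out with hb | hb
          · rw [hb, hab.2 hb]
          · rw [ha, hb]
      rw [← QuotientGroup.out_eq' a, ← QuotientGroup.out_eq' b, QuotientGroup.eq,
        Subgroup.mem_subgroupOf]
      refine Subgroup.mem_centralizer_singleton_iff.2 ?_
      rw [Subgroup.coe_mul, Subgroup.coe_inv]
      calc (a.out : DihedralGroup m)⁻¹ * b.out * sr i
          = (a.out : DihedralGroup m)⁻¹ * ((b.out : DihedralGroup m) * sr i *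
              (b.out : DihedralGroup m)⁻¹) * b.out := by group
        _ = sr i * ((a.out : DihedralGroup m)⁻¹ * b.out) := by rw [← heq]; group
    simpa [Subgroup.index_eq_card] using Nat.card_le_card_of_injective f hf
  have h := ((fourD m i).subgroupOf N).card_mul_index
  rw [Nat.card_congr (Subgroup.subgroupOfEquivOfLe Subgroup.le_normalizer).toEquiv, card_fourD hm] at h
  omega

end Cfsg.Agent.Lib.SECount
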