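import Mathlib
import Cfsg.Agent.Lib.SECount.DihedralFours
import Cfsg.Agent.S0514

/-!
Klein four-subgroups in a group with dihedral Sylow 2-subgroup: two classes once the Sylow
subgroup has order at least 8.
-/

set_option autoImplicit false
set_option maxHeartbeats 400000

namespace Cfsg.Agent.Lib.SECount

variable {X : Type*} [Group X] [Finite X]

theorem isKleinFour_map_iff {G H : Type*} [Group G] [Group H] (f : G →* H)
    (hf : Function.Injective f) (K : Subgroup G) : IsKleinFour (K.map f) ↔ IsKleinFour K := by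
  have hc : Nat.card ↥(K.map f) = Nat.card K := Subgroup.card_map_of_injective hf
  have he := Monoid.exponent_eq_of_mulEquiv (K.equivMapOfInjective f hf)
  exact ⟨fun h => ⟨hc ▸ h.card_four, he.trans h.exponent_two⟩,
    fun h => ⟨hc.trans h.card_four, he ▸ h.exponent_two⟩⟩

variable (S : Sylow 2 X) {m : ℕ} (eS : (S : Subgroup X) ≃* DihedralGroup m)

/-- The embedding of the dihedral group as the Sylow subgroup `S`. -/
def dihEmb : DihedralGroup m →* X := (S : Subgroup X).subtype.comp eS.symm.toMonoidHom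

omit [Finite X] in
theorem dihEmb_injective : Function.Injective (dihEmb S eS) :=
  (Subgroup.subtype_injective _).comp eS.symm.injective

omit [Finite X] in
theorem dihEmb_mem (d : DihedralGroup m) : dihEmb S eS d ∈ (S : Subgroup X) := (eS.symm d).2

omit [Finite X] in
theorem dihEmb_range : (dihEmb S eS).range = (S : Subgroup X) := by
  ext x
  exact ⟨fun ⟨d, hd⟩ => hd ▸ dihEmb_mem S eS d,
    fun hx => ⟨eS ⟨x, hx⟩, congrArg Subtype.val (eS.symm_apply_apply ⟨x, hx⟩)⟩⟩

/-- The four-subgroup of `S` containing the image of `sr i`. -/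
def fourS (i : ZMod m) : Subgroup X := (fourD m i).map (dihEmb S eS)

include eS in
theorem dihedral_card (hm : 2 ≤ m) : Nat.card S = 2 * m ∧ 2 ∣ m ∧ (2 < m → 4 ∣ m) := by
  haveI : Fact (Nat.Prime 2) := ⟨Nat.prime_two⟩
  have h : Nat.card S = 2 * m :=
    (Nat.card_congr eS.toEquiv).trans DihedralGroup.nat_card
  obtain ⟨n, hn⟩ := IsPGroup.iff_card.1 S.2
  have hd : m ∣ 2 ^ n := ⟨2, by rw [← hn, h, mul_comm]⟩
  obtain ⟨a, -, rfl⟩ := (Nat.dvd_prime_pow Nat.prime_two).1 hd
  have ha : 1 ≤ a := Nat.one_le_iff_ne_zero.2 fun h => by simp [h] at hm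
  refine ⟨h, dvd_pow_self 2 (by omega), fun h2 => ?_⟩
  have : 2 ≤ a := by
    by_contra hc
    rw [show a = 1 by omega] at h2
    omega
  exact pow_dvd_pow 2 this

omit [Finite X] in
theorem fourS_le (i : ZMod m) : fourS S eS i ≤ (S : Subgroup X) :=
  (Subgroup.map_le_range _ _).trans (dihEmb_range S eS).le

theorem isKleinFour_fourS (hm : 2 ≤ m) (i : ZMod m) : IsKleinFour (fourS S eS i) := by
  haveI : NeZero m := ⟨by omega⟩
  exact (isKleinFour_map_iff _ (dihEmb_injective S eS) _).2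
    (isKleinFour_fourD (dihedral_card S eS hm).2.1 i)

theorem exists_eq_fourS (hm : 2 ≤ m) (U : Subgroup X) (hU : IsKleinFour U)
    (hUS : U ≤ (S : Subgroup X)) : ∃ i, U = fourS S eS i := by
  haveI : NeZero m := ⟨by omega⟩
  have hU' : U = (U.comap (dihEmb S eS)).map (dihEmb S eS) := by
    rw [Subgroup.map_comap_eq_self ((dihEmb_range S eS).symm ▸ hUS)]
  rw [hU'] at hU
  haveI := (isKleinFour_map_iff _ (dihEmb_injective S eS) _).1 hU
  obtain ⟨i, hi⟩ := exists_eq_fourD (dihedral_card S eS hm).2.1 (U.comap (dihEmb S eS))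
  exact ⟨i, hU'.trans (by rw [hi, fourS])⟩

omit [Finite X] in
theorem fourS_map_conj (t : DihedralGroup m) (i : ZMod m) :
    (fourS S eS i).map (MulAut.conj (dihEmb S eS t)).toMonoidHom =
      ((fourD m i).map (MulAut.conj t).toMonoidHom).map (dihEmb S eS) := by
  rw [fourS, Subgroup.map_map, Subgroup.map_map]
  congr 1
  ext d; simp

omit [Finite X] in
theorem map_conj_trans (W : Subgroup X) (a b : X) :
    (W.map (MulAut.conj a).toMonoidHom).map (MulAut.conj b).toMonoidHom =
      W.map (MulAut.conj (b * a)).toMonoidHom := by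
  rw [Subgroup.map_map]; congr 1; ext x; simp [mul_assoc]

theorem exists_conj_le_sylow {p : ℕ} [Fact p.Prime] (P : Sylow p X) {V : Subgroup X}
    (hV : IsPGroup p V) : ∃ x : X, V.map (MulAut.conj x).toMonoidHom ≤ (P : Subgroup X) := by
  obtain ⟨Q, hQ⟩ := hV.exists_le_sylow
  obtain ⟨x, hx⟩ := MulAction.exists_smul_eq X Q P
  refine ⟨x, ?_⟩
  rintro _ ⟨v, hv, rfl⟩
  rw [← hx, Sylow.coe_subgroup_smul]
  exact Subgroup.smul_mem_pointwise_smul v (MulAut.conj x) _ (hQ hv)

omit [Finite X] in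
theorem isPGroup_kleinFour (V : Subgroup X) [IsKleinFour V] : IsPGroup 2 V :=
  IsPGroup.of_card (n := 2) (by rw [IsKleinFour.card_four]; norm_num)

/-- Every four-subgroup is conjugate to one of two given ones. -/
theorem exists_conj_fourS (hm : 2 ≤ m) (V : Subgroup X) (hV : IsKleinFour V) :
    ∃ x : X, V.map (MulAut.conj x).toMonoidHom = fourS S eS 0 ∨
      V.map (MulAut.conj x).toMonoidHom = fourS S eS 1 := by
  haveI : NeZero m := ⟨by omega⟩
  haveI : Fact (Nat.Prime 2) := ⟨Nat.prime_two⟩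
  obtain ⟨x, hx⟩ := exists_conj_le_sylow S (isPGroup_kleinFour V)
  obtain ⟨i, hi⟩ := exists_eq_fourS S eS hm _
    ((isKleinFour_map_iff _ (MulAut.conj x).injective V).2 hV) hx
  obtain ⟨t, ht⟩ := exists_conj_fourD i
  refine ⟨dihEmb S eS t * x, ?_⟩
  rw [← map_conj_trans, hi, fourS_map_conj]
  exact ht.imp (fun h => by rw [h, fourS]) (fun h => by rw [h, fourS])

include eS in
/-- A 2-subgroup normalising a four-subgroup has order at most 8. -/
theorem card_le_of_normalizes_kleinFour (hm : 2 ≤ m) (U P : Subgroup X) [IsKleinFour U]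
    (hP : IsPGroup 2 P) (hUP : U ≤ P) (hPN : P ≤ Subgroup.normalizer (U : Set X)) :
    Nat.card P ≤ 8 := by
  haveI : NeZero m := ⟨by omega⟩
  haveI : Fact (Nat.Prime 2) := ⟨Nat.prime_two⟩
  obtain ⟨x, hx⟩ := exists_conj_le_sylow S hP
  obtain ⟨i, hi⟩ := exists_eq_fourS S eS hm (U.map (MulAut.conj x).toMonoidHom)
    ((isKleinFour_map_iff _ (MulAut.conj x).injective U).2 inferInstance)
    ((Subgroup.map_mono hUP).trans hx)
  set P' := P.map (MulAut.conj x).toMonoidHom
  have hle : P'.comap (dihEmb S eS) ≤ Subgroup.normalizer (fourD m i : Set (DihedralGroup m)) := by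
    intro d hd
    obtain ⟨p, hp, hpd⟩ := hd
    refine Subgroup.mem_normalizer_iff.2 fun g => ?_
    rw [← Subgroup.mem_map_iff_mem (dihEmb_injective S eS), ← fourS, ← hi,
      ← Subgroup.mem_map_iff_mem (dihEmb_injective S eS) (K := fourD m i), ← fourS, ← hi,
      map_mul, map_mul, map_inv, ← hpd, Subgroup.mem_map_equiv, Subgroup.mem_map_equiv,
      Subgroup.mem_normalizer_iff.1 (hPN hp) ((MulAut.conj x).symm (dihEmb S eS g))]
    simp [mul_assoc]
  calc Nat.card P = Nat.card P' := (Subgroup.card_map_of_injective (MulAut.conj x).injective).symm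
    _ = Nat.card ↥((P'.comap (dihEmb S eS)).map (dihEmb S eS)) := by
        rw [Subgroup.map_comap_eq_self ((dihEmb_range S eS).symm ▸ hx)]
    _ = Nat.card (P'.comap (dihEmb S eS)) :=
        Subgroup.card_map_of_injective (dihEmb_injective S eS)
    _ ≤ 8 := (Subgroup.card_le_of_le hle).trans
        (card_normalizer_fourD (dihedral_card S eS hm).2.1 i)

/-- The two standard four-subgroups are not conjugate when `|S| > 4`. -/
theorem not_conj_fourS (hm : 2 < m) (g : X) :
    (fourS S eS 0).map (MulAut.conj g).toMonoidHom ≠ fourS S eS 1 := by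
  haveI : NeZero m := ⟨by omega⟩
  haveI : Fact (Nat.Prime 2) := ⟨Nat.prime_two⟩
  obtain ⟨-, h2, h4'⟩ := dihedral_card S eS hm.le
  have h4 := h4' hm
  intro hg
  set U₁ := fourS S eS 1 with hU₁
  haveI : IsKleinFour U₁ := isKleinFour_fourS S eS hm.le 1
  -- the 2-subgroups of order 8 normalising the two four-subgroups
  set D : ZMod m → Subgroup X := fun i =>
    (Subgroup.normalizer (fourD m i : Set (DihedralGroup m))).map (dihEmb S eS) with hD
  have hDS : ∀ i, D i ≤ (S : Subgroup X) := fun i =>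
    (Subgroup.map_le_range _ _).trans (dihEmb_range S eS).le
  have hDN : ∀ i, D i ≤ Subgroup.normalizer (fourS S eS i : Set X) := fun i =>
    Subgroup.le_normalizer_map _
  have hUD : ∀ i, fourS S eS i ≤ D i := fun i => Subgroup.map_mono Subgroup.le_normalizer
  have hDcard : ∀ i, 8 ≤ Nat.card (D i) := by
    intro i
    rw [show Nat.card (D i) = Nat.card (Subgroup.normalizer (fourD m i : Set (DihedralGroup m)))
      from Subgroup.card_map_of_injective (dihEmb_injective S eS)]
    obtain ⟨t, ht, ht', -, -⟩ := exists_normalizer_fourD h4 i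
    have hne : (fourD m i).subgroupOf (Subgroup.normalizer (fourD m i : Set (DihedralGroup m))) ≠ ⊤ :=
      fun h => ht' (Subgroup.subgroupOf_eq_top.1 h ht)
    have h := ((fourD m i).subgroupOf
      (Subgroup.normalizer (fourD m i : Set (DihedralGroup m)))).card_mul_index
    rw [Nat.card_congr (Subgroup.subgroupOfEquivOfLe Subgroup.le_normalizer).toEquiv,
      card_fourD h2] at h
    have h1 : ((fourD m i).subgroupOf (Subgroup.normalizer (fourD m i : Set (DihedralGroup m)))).index ≠ 1 :=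
      fun hc => hne (Subgroup.index_eq_one.1 hc)
    have := Subgroup.index_ne_zero_of_finite (H := (fourD m i).subgroupOf
      (Subgroup.normalizer (fourD m i : Set (DihedralGroup m))))
    omega
  -- correct `g` so that it maps `D 0` onto `D 1`
  obtain ⟨c, hc⟩ : ∃ c : X, c ∈ Subgroup.normalizer (U₁ : Set X) ∧
      (D 0).map (MulAut.conj (c * g)).toMonoidHom ≤ D 1 := by
    have hle : (D 0).map (MulAut.conj g).toMonoidHom ≤ Subgroup.normalizer (U₁ : Set X) := by
      rw [← hg]
      exact (Subgroup.map_mono (hDN 0)).trans (Subgroup.le_normalizer_map _)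
    have hp0 : IsPGroup 2 ((D 0).map (MulAut.conj g).toMonoidHom) := (S.2.to_le (hDS 0)).map _
    obtain ⟨Q₀, hQ₀⟩ := (hp0.of_equiv (Subgroup.subgroupOfEquivOfLe hle).symm).exists_le_sylow
    obtain ⟨Q₁, hQ₁⟩ := ((S.2.to_le (hDS 1)).of_equiv
      (Subgroup.subgroupOfEquivOfLe (hDN 1)).symm).exists_le_sylow
    obtain ⟨c, hc⟩ := MulAction.exists_smul_eq ↥(Subgroup.normalizer (U₁ : Set X)) Q₀ Q₁
    have hQeq : (Q₁ : Subgroup ↥(Subgroup.normalizer (U₁ : Set X))).map
        (Subgroup.normalizer (U₁ : Set X)).subtype = D 1 := by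
      have hle' : D 1 ≤ (Q₁ : Subgroup ↥(Subgroup.normalizer (U₁ : Set X))).map
          (Subgroup.normalizer (U₁ : Set X)).subtype := fun d hd =>
        ⟨⟨d, hDN 1 hd⟩, hQ₁ (Subgroup.mem_subgroupOf.2 hd), rfl⟩
      refine (Subgroup.eq_of_le_of_card_ge hle' ?_).symm
      exact (card_le_of_normalizes_kleinFour S eS hm.le U₁ _ (Q₁.2.map _)
        ((hUD 1).trans hle') (Subgroup.map_subtype_le _)).trans (hDcard 1)
    refine ⟨c, c.2, ?_⟩
    rw [← map_conj_trans, ← hQeq]
    rintro _ ⟨d, hd, rfl⟩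
    have h3 := Subgroup.smul_mem_pointwise_smul
      (⟨d, hle hd⟩ : ↥(Subgroup.normalizer (U₁ : Set X))) (MulAut.conj c) _
      (hQ₀ (Subgroup.mem_subgroupOf.2 hd))
    rw [← Sylow.coe_subgroup_smul, hc] at h3
    exact ⟨_, h3, by simp [mul_assoc]⟩
  obtain ⟨hcN, hcD⟩ := hc
  set k := c * g with hk
  have hk1 : (fourS S eS 0).map (MulAut.conj k).toMonoidHom = U₁ := by
    rw [hk, ← map_conj_trans, hg]
    ext x
    rw [Subgroup.mem_map_equiv, MulAut.conj_symm_apply, ← Subgroup.mem_normalizer_iff''.1 hcN x]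
  have hcardD : (D 0).map (MulAut.conj k).toMonoidHom = D 1 := by
    haveI : IsKleinFour (fourS S eS 1) := isKleinFour_fourS S eS hm.le 1
    refine Subgroup.eq_of_le_of_card_ge hcD ?_
    rw [show Nat.card ↥((D 0).map (MulAut.conj k).toMonoidHom) = Nat.card (D 0) from
      Subgroup.card_map_of_injective (MulAut.conj k).injective]
    exact (card_le_of_normalizes_kleinFour S eS hm.le _ _ (S.2.to_le (hDS 1)) (hUD 1)
      (hDN 1)).trans (hDcard 0)
  -- so `k` fixes the central involution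
  set z := dihEmb S eS (dihInv m) with hz
  have hkz : k * z * k⁻¹ = z := by
    have hzU : k * z * k⁻¹ ∈ U₁ := hk1.le ⟨z, ⟨dihInv m, (mem_fourD_iff h2).2 (Or.inr (Or.inl rfl)), rfl⟩, rfl⟩
    obtain ⟨d, hd, hde⟩ := hzU
    obtain ⟨t, ht, -, ht1, ht2⟩ := exists_normalizer_fourD h4 (1 : ZMod m)
    have hcomm : t * d = d * t := by
      apply dihEmb_injective S eS
      obtain ⟨w, ⟨w', -, rfl⟩, hw⟩ : dihEmb S eS t ∈ (D 0).map (MulAut.conj k).toMonoidHom :=
        hcardD.symm ▸ (⟨t, ht, rfl⟩ : dihEmb S eS t ∈ D 1)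
      simp only [MulEquiv.coe_toMonoidHom, MulAut.conj_apply] at hw
      rw [map_mul, map_mul, hde, ← hw]
      have hc' : dihEmb S eS w' * z = z * dihEmb S eS w' := by
        rw [hz, ← map_mul, ← map_mul, (dihInv_commute h2 w').eq]
      calc k * dihEmb S eS w' * k⁻¹ * (k * z * k⁻¹) = k * (dihEmb S eS w' * z) * k⁻¹ := by group
        _ = k * z * k⁻¹ * (k * dihEmb S eS w' * k⁻¹) := by rw [hc']; group
    rcases (mem_fourD_iff h2).1 hd with rfl | rfl | rfl | rfl
    · exfalso
      rw [map_one, eq_comm, mul_inv_eq_one, mul_eq_left] at hde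
      have h1 : dihInv m = 1 := dihEmb_injective S eS (hde.trans (map_one _).symm)
      have := orderOf_dihInv (m := m) h2
      rw [h1, orderOf_one] at this
      omega
    · exact hde.symm
    · exact absurd hcomm ht1
    · exact absurd hcomm ht2
  -- the centralizer of `z` has a normal 2-complement
  have hzord : orderOf z = 2 := (orderOf_injective _ (dihEmb_injective S eS) _).trans (orderOf_dihInv h2)
  set C := Subgroup.centralizer ({z} : Set X) with hC
  obtain ⟨W, hWn, hWodd, a, hWidx⟩ : ∃ W : Subgroup C, W.Normal ∧ Odd (Nat.card W) ∧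
      ∃ a : ℕ, W.index = 2 ^ a := S0514.result S m hm.le ⟨eS⟩ z hzord
  haveI := hWn
  have hSC : (S : Subgroup X) ≤ C := by
    intro s hs
    rw [← dihEmb_range S eS] at hs
    obtain ⟨d, rfl⟩ := hs
    rw [hC, Subgroup.mem_centralizer_singleton_iff, hz, ← map_mul, ← map_mul,
      (dihInv_commute h2 d).eq]
  have hWS : W ⊔ (S.subtype hSC : Subgroup C) = ⊤ := by
    have hd1 : (W ⊔ (S.subtype hSC : Subgroup C)).index ∣ 2 ^ a :=
      (Subgroup.index_dvd_of_le (le_sup_left : W ≤ _)).trans hWidx.dvd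
    have hd2 : (W ⊔ (S.subtype hSC : Subgroup C)).index ∣ (S.subtype hSC : Subgroup C).index :=
      Subgroup.index_dvd_of_le (le_sup_right : (S.subtype hSC : Subgroup C) ≤ _)
    rw [← Subgroup.index_eq_one]
    refine Nat.eq_one_of_dvd_coprimes (Nat.Coprime.pow_left a ?_) hd1 hd2
    exact Nat.prime_two.coprime_iff_not_dvd.2 (S.subtype hSC).not_dvd_index
  have hkC : k ∈ C := by
    rw [hC, Subgroup.mem_centralizer_singleton_iff]; exact mul_inv_eq_iff_eq_mul.1 hkz
  obtain ⟨w, hw, s, hs, hws⟩ := Subgroup.mem_sup_of_normal_left.1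
    (show (⟨k, hkC⟩ : C) ∈ W ⊔ (S.subtype hSC : Subgroup C) by rw [hWS]; exact Subgroup.mem_top _)
  have hsS : (s : X) ∈ (S : Subgroup X) := Subgroup.mem_subgroupOf.1 hs
  rw [← dihEmb_range S eS] at hsS
  obtain ⟨t, hts⟩ := hsS
  -- and the `W`-part centralises `s U₀ s⁻¹`
  refine not_conj_fourD h4 t (Subgroup.map_injective (dihEmb_injective S eS) ?_)
  rw [← fourS_map_conj, hts]
  refine Eq.trans ?_ hk1
  have hkws : k = (w : X) * (s : X) := congrArg Subtype.val hws.symm
  rw [hkws, ← map_conj_trans]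
  set U' := (fourS S eS 0).map (MulAut.conj (s : X)).toMonoidHom with hU'
  have hU'S : U' ≤ (S : Subgroup X) := by
    rintro _ ⟨u, hu, rfl⟩
    exact Subgroup.mul_mem _ (Subgroup.mul_mem _ (Subgroup.mem_subgroupOf.1 hs)
      (fourS_le S eS 0 hu)) (Subgroup.inv_mem _ (Subgroup.mem_subgroupOf.1 hs))
  have hfix : ∀ u ∈ U', (w : X) * u * (w : X)⁻¹ = u := by
    intro u hu
    have hwu : (w : X) * u * (w : X)⁻¹ ∈ (S : Subgroup X) := by
      refine fourS_le S eS 1 ?_
      rw [← hU₁, ← hk1, hkws, ← map_conj_trans]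
      exact ⟨u, hu, rfl⟩
    set u' : C := ⟨u, hSC (hU'S hu)⟩ with hu'
    have h1 : w * u' * w⁻¹ * u'⁻¹ ∈ W := by
      rw [show w * u' * w⁻¹ * u'⁻¹ = w * (u' * w⁻¹ * u'⁻¹) by group]
      exact W.mul_mem hw (hWn.conj_mem _ (W.inv_mem hw) u')
    have h2' : w * u' * w⁻¹ * u'⁻¹ ∈ (S.subtype hSC : Subgroup C) :=
      Subgroup.mem_subgroupOf.2 (Subgroup.mul_mem _ hwu (Subgroup.inv_mem _ (hU'S hu)))
    have hbot : W ⊓ (S.subtype hSC : Subgroup C) = ⊥ := by
      refine Subgroup.inf_eq_bot_of_coprime ?_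
      obtain ⟨n, hn⟩ := IsPGroup.iff_card.1 (S.subtype hSC).2
      rw [hn]
      exact Nat.Coprime.pow_right n (Nat.coprime_two_right.2 hWodd)
    have h3 : w * u' * w⁻¹ * u'⁻¹ = 1 := Subgroup.mem_bot.1 (hbot.le (Subgroup.mem_inf.2 ⟨h1, h2'⟩))
    exact mul_inv_eq_one.1 (congrArg Subtype.val h3)
  ext x
  constructor
  · exact fun hx => ⟨x, hx, hfix x hx⟩
  · rintro ⟨u, hu, rfl⟩
    simp only [MulEquiv.coe_toMonoidHom, MulAut.conj_apply]
    rwa [hfix u hu]

end Cfsg.Agent.Lib.SECount
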