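import Mathlib
import Cfsg.Agent.Lib.SECount.DihedralSylow
import Cfsg.Agent.Lib.Involution.ThompsonTransfer

/-!
Fusion in a group with dihedral Sylow 2-subgroup `S`: automisers of four-subgroups, and the
transfer argument giving a subgroup of index 2 when one of them is small.
-/

set_option autoImplicit false

namespace Cfsg.Agent.Lib.SECount

open DihedralGroup

variable {X : Type*} [Group X] [Finite X]

/-- The action of the normalizer of `U` on the nontrivial elements of `U`. -/
noncomputable def invoPerm (U : Subgroup X) :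
    ↥(Subgroup.normalizer (U : Set X)) →* Equiv.Perm {x : U // x ≠ 1} where
  toFun g :=
    ((Subgroup.normalizerMonoidHom U g).toEquiv).subtypeEquiv fun x =>
      not_congr (MulEquiv.map_eq_one_iff _).symm
  map_one' := by
    ext x
    simp
  map_mul' a b := by
    ext x
    simp [mul_assoc]

omit [Finite X] in
theorem invoPerm_apply (U : Subgroup X) (g : ↥(Subgroup.normalizer (U : Set X)))
    (x : {x : U // x ≠ 1}) :
    (((invoPerm U g x).1 : U) : X) = (g : X) * ((x.1 : U) : X) * (g : X)⁻¹ := rfl

omit [Finite X] in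
theorem invoPerm_ker (U : Subgroup X) :
    (invoPerm U).ker =
      (Subgroup.centralizer (U : Set X)).subgroupOf (Subgroup.normalizer (U : Set X)) := by
  ext g
  rw [MonoidHom.mem_ker, Subgroup.mem_subgroupOf, Subgroup.mem_centralizer_iff]
  constructor
  · intro h u hu
    by_cases h1 : u = 1
    · simp [h1]
    · have h2 := invoPerm_apply U g ⟨⟨u, hu⟩, fun h' => h1 (congrArg Subtype.val h')⟩
      rw [h] at h2
      exact ((eq_mul_inv_iff_mul_eq).1 h2)
  · intro h
    refine Equiv.ext fun x => Subtype.ext (Subtype.ext ?_)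
    rw [invoPerm_apply, Equiv.Perm.one_apply, ← h _ x.1.2, mul_inv_cancel_right]

omit [Finite X] in
theorem card_invoPerm_range (U : Subgroup X) :
    Nat.card (invoPerm U).range =
      (Subgroup.centralizer (U : Set X)).relIndex (Subgroup.normalizer (U : Set X)) := by
  rw [← Subgroup.index_ker, invoPerm_ker]; rfl

theorem relIndex_dvd_six (U : Subgroup X) [IsKleinFour U] :
    (Subgroup.centralizer (U : Set X)).relIndex (Subgroup.normalizer (U : Set X)) ∣ 6 := by
  classical
  haveI : Fintype U := Fintype.ofFinite _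
  rw [← card_invoPerm_range]
  refine (Subgroup.card_subgroup_dvd_card _).trans ?_
  rw [Nat.card_perm, Nat.card_eq_fintype_card, Fintype.card_subtype_compl,
    Fintype.card_subtype_eq, ← Nat.card_eq_fintype_card, IsKleinFour.card_four]
  norm_num [Nat.factorial]

/-- If `3` divides the automiser, all nontrivial elements of `U` are conjugate in `N(U)`. -/
theorem exists_conj_of_three_dvd (U : Subgroup X) [IsKleinFour U]
    (h : 3 ∣ (Subgroup.centralizer (U : Set X)).relIndex (Subgroup.normalizer (U : Set X)))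
    {a b : X} (ha : a ∈ U) (hb : b ∈ U) (ha1 : a ≠ 1) (hb1 : b ≠ 1) :
    ∃ g ∈ Subgroup.normalizer (U : Set X), g * a * g⁻¹ = b := by
  classical
  haveI : Fact (Nat.Prime 3) := ⟨Nat.prime_three⟩
  haveI : Fintype U := Fintype.ofFinite _
  rw [← card_invoPerm_range] at h
  obtain ⟨⟨σ, g, rfl⟩, hσ'⟩ := exists_prime_orderOf_dvd_card' 3 h
  have hσ : orderOf (invoPerm U g) = 3 := (Subgroup.orderOf_coe _).trans hσ'
  have hcard : Fintype.card {x : U // x ≠ 1} = 3 := by
    rw [Fintype.card_subtype_compl, Fintype.card_subtype_eq, ← Nat.card_eq_fintype_card,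
      IsKleinFour.card_four]
  have hcyc : (invoPerm U g).IsCycle :=
    Equiv.Perm.isCycle_of_prime_order' (by rw [hσ]; exact Nat.prime_three) (by rw [hσ, hcard]; omega)
  have hsup : (invoPerm U g).support = Finset.univ := (Finset.card_eq_iff_eq_univ _).1 (by
    rw [← hcyc.orderOf, hσ, hcard])
  obtain ⟨k, hk⟩ := hcyc.exists_pow_eq
    (x := ⟨⟨a, ha⟩, fun h' => ha1 (congrArg Subtype.val h')⟩)
    (y := ⟨⟨b, hb⟩, fun h' => hb1 (congrArg Subtype.val h')⟩)
    (Equiv.Perm.mem_support.1 (hsup ▸ Finset.mem_univ _))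
    (Equiv.Perm.mem_support.1 (hsup ▸ Finset.mem_univ _))
  rw [← map_pow] at hk
  exact ⟨((g ^ k : ↥(Subgroup.normalizer (U : Set X))) : X), Subtype.coe_prop _,
    (invoPerm_apply U (g ^ k) _).symm.trans (congrArg (fun x : {x : U // x ≠ 1} => ((x.1 : U) : X)) hk)⟩

variable (S : Sylow 2 X) {m : ℕ} (eS : (S : Subgroup X) ≃* DihedralGroup m)

include eS in
/-- For `|S| > 4` the automiser of a four-subgroup of `S` has even order. -/
theorem two_dvd_relIndex (hm : 2 < m) (i : ZMod m) :
    2 ∣ (Subgroup.centralizer (fourS S eS i : Set X)).relIndex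
      (Subgroup.normalizer (fourS S eS i : Set X)) := by
  haveI : NeZero m := ⟨by omega⟩
  haveI : Fact (Nat.Prime 2) := ⟨Nat.prime_two⟩
  obtain ⟨-, h2, h4⟩ := dihedral_card S eS hm.le
  obtain ⟨t, ht, -, ht1, -⟩ := exists_normalizer_fourD (h4 hm) i
  have htN : dihEmb S eS t ∈ Subgroup.normalizer (fourS S eS i : Set X) :=
    Subgroup.le_normalizer_map _ ⟨t, ht, rfl⟩
  rw [← card_invoPerm_range]
  have hne : invoPerm (fourS S eS i) ⟨_, htN⟩ ≠ 1 := by
    intro h
    rw [← MonoidHom.mem_ker, invoPerm_ker, Subgroup.mem_subgroupOf, Subgroup.mem_centralizer_iff] at h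
    refine ht1 (dihEmb_injective S eS ?_)
    rw [map_mul, map_mul]
    exact (h _ ⟨sr i, (sr_mem_fourD_iff h2).2 (Or.inl rfl), rfl⟩).symm
  obtain ⟨k, hk⟩ := S.2 ⟨_, dihEmb_mem S eS t⟩
  have h1 : (⟨_, htN⟩ : ↥(Subgroup.normalizer (fourS S eS i : Set X))) ^ 2 ^ k = 1 :=
    Subtype.ext (by
      rw [SubmonoidClass.coe_pow]
      exact congrArg Subtype.val hk)
  obtain ⟨j, -, hj⟩ := (Nat.dvd_prime_pow Nat.prime_two).1 (orderOf_dvd_of_pow_eq_one
    (x := invoPerm (fourS S eS i) ⟨_, htN⟩) (n := 2 ^ k) (by rw [← map_pow, h1, map_one]))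
  have hj0 : j ≠ 0 := fun h => hne (orderOf_eq_one_iff.1 (by rw [hj, h, pow_zero]))
  have h5 := orderOf_dvd_natCard
    (⟨invoPerm (fourS S eS i) ⟨_, htN⟩, ⟨_, rfl⟩⟩ : (invoPerm (fourS S eS i)).range)
  rw [← Subgroup.orderOf_coe, hj] at h5
  exact (dvd_pow_self 2 hj0).trans h5

omit [Finite X] in
theorem fourS_comm_of_two (hm : m = 2) (i : ZMod m) :
    (S : Subgroup X) ≤ Subgroup.centralizer (fourS S eS i : Set X) := by
  subst hm
  intro s hs
  refine Subgroup.mem_centralizer_iff.2 fun u hu => ?_
  rw [← dihEmb_range S eS] at hs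
  obtain ⟨a, rfl⟩ := hs
  obtain ⟨b, -, rfl⟩ := hu
  rw [← map_mul, ← map_mul]
  congr 1
  revert a b
  decide

/-- For `|S| = 4` the automiser has odd order. -/
theorem not_two_dvd_relIndex (hm : m = 2) (i : ZMod m) :
    ¬ 2 ∣ (Subgroup.centralizer (fourS S eS i : Set X)).relIndex
      (Subgroup.normalizer (fourS S eS i : Set X)) := by
  haveI : Fact (Nat.Prime 2) := ⟨Nat.prime_two⟩
  intro h
  refine S.not_dvd_index (h.trans ?_)
  refine (Subgroup.relIndex_dvd_index_of_le ?_).trans
    (Subgroup.index_dvd_of_le (fourS_comm_of_two S eS hm i))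
  intro g hg
  refine Subgroup.mem_normalizer_iff.2 fun u => ⟨fun hu => ?_, fun hu => ?_⟩
  · rwa [← Subgroup.mem_centralizer_iff.1 hg u hu, mul_inv_cancel_right]
  · have h1 := Subgroup.mem_centralizer_iff.1 hg _ hu
    rw [mul_assoc (g * u), inv_mul_cancel, mul_one, ← mul_assoc] at h1
    have h2 : u = g * u * g⁻¹ := mul_left_cancel (a := g) (h1.trans (by group))
    rwa [h2]

/-- The value 3 or 6 of the automiser is the same as 3 dividing it. -/
theorem relIndex_eq_iff (hm : 2 ≤ m) (i : ZMod m) :
    (Subgroup.centralizer (fourS S eS i : Set X)).relIndex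
        (Subgroup.normalizer (fourS S eS i : Set X)) = (if Nat.card S = 4 then 3 else 6) ↔
      3 ∣ (Subgroup.centralizer (fourS S eS i : Set X)).relIndex
        (Subgroup.normalizer (fourS S eS i : Set X)) := by
  haveI : NeZero m := ⟨by omega⟩
  haveI := isKleinFour_fourS S eS hm i
  have hd := relIndex_dvd_six (fourS S eS i)
  have hcard := (dihedral_card S eS hm).1
  by_cases h2 : m = 2
  · rw [if_pos (by omega)]
    have hodd := not_two_dvd_relIndex S eS h2 i
    refine ⟨fun h => by rw [h], fun h => ?_⟩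
    have hle := Nat.le_of_dvd (by norm_num) hd
    generalize (Subgroup.centralizer (fourS S eS i : Set X)).relIndex
      (Subgroup.normalizer (fourS S eS i : Set X)) = R at *
    interval_cases R <;> omega
  · rw [if_neg (by omega)]
    have heven := two_dvd_relIndex S eS (by omega) i
    refine ⟨fun h => by rw [h]; norm_num, fun h => ?_⟩
    exact Nat.dvd_antisymm hd (Nat.Coprime.mul_dvd_of_dvd_of_dvd (by norm_num) heven h)

/-- A small automiser fixes the central involution, and is trivial when `|S| = 4`. -/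
theorem fix_of_not_three_dvd (hm : 2 ≤ m) (i : ZMod m)
    (h3 : ¬ 3 ∣ (Subgroup.centralizer (fourS S eS i : Set X)).relIndex
      (Subgroup.normalizer (fourS S eS i : Set X))) :
    ∀ g ∈ Subgroup.normalizer (fourS S eS i : Set X),
      g * dihEmb S eS (dihInv m) * g⁻¹ = dihEmb S eS (dihInv m) ∧
      (m = 2 → ∀ u ∈ fourS S eS i, g * u * g⁻¹ = u) := by
  classical
  haveI : NeZero m := ⟨by omega⟩
  haveI := isKleinFour_fourS S eS hm i
  obtain ⟨-, h2, h4⟩ := dihedral_card S eS hm
  have hd := relIndex_dvd_six (fourS S eS i)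
  have hle := Nat.le_of_dvd (by norm_num) hd
  intro g hg
  by_cases hm2 : m = 2
  · have hodd := not_two_dvd_relIndex S eS hm2 i
    have h1 : (Subgroup.centralizer (fourS S eS i : Set X)).relIndex
        (Subgroup.normalizer (fourS S eS i : Set X)) = 1 := by
      generalize (Subgroup.centralizer (fourS S eS i : Set X)).relIndex
        (Subgroup.normalizer (fourS S eS i : Set X)) = R at *
      interval_cases R <;> omega
    have hc := Subgroup.relIndex_eq_one.1 h1 hg
    have hall : ∀ u ∈ fourS S eS i, g * u * g⁻¹ = u := fun u hu => by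
      rw [← Subgroup.mem_centralizer_iff.1 hc u hu, mul_inv_cancel_right]
    exact ⟨hall _ ⟨_, (mem_fourD_iff h2).2 (Or.inr (Or.inl rfl)), rfl⟩, fun _ => hall⟩
  · refine ⟨?_, fun h => absurd h hm2⟩
    have hm' : 2 < m := by omega
    have heven := two_dvd_relIndex S eS hm' i
    have hR : Nat.card (invoPerm (fourS S eS i)).range = 2 := by
      rw [card_invoPerm_range]
      generalize (Subgroup.centralizer (fourS S eS i : Set X)).relIndex
        (Subgroup.normalizer (fourS S eS i : Set X)) = R at *
      interval_cases R <;> omega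
    obtain ⟨t, ht, -, ht1, -⟩ := exists_normalizer_fourD (h4 hm') i
    have htN : dihEmb S eS t ∈ Subgroup.normalizer (fourS S eS i : Set X) :=
      Subgroup.le_normalizer_map _ ⟨t, ht, rfl⟩
    set f := invoPerm (fourS S eS i)
    have hft : f ⟨_, htN⟩ ≠ 1 := by
      intro h
      rw [← MonoidHom.mem_ker, invoPerm_ker, Subgroup.mem_subgroupOf,
        Subgroup.mem_centralizer_iff] at h
      refine ht1 (dihEmb_injective S eS ?_)
      rw [map_mul, map_mul]
      exact (h _ ⟨sr i, (sr_mem_fourD_iff h2).2 (Or.inl rfl), rfl⟩).symm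
    have hcases : f ⟨g, hg⟩ = 1 ∨ f ⟨g, hg⟩ = f ⟨_, htN⟩ := by
      obtain ⟨x, y, hxy, hset⟩ := Nat.card_eq_two_iff.1 hR
      have hx : ∀ w : f.range, w = x ∨ w = y := fun w => by
        have := Set.mem_univ w
        rw [← hset] at this
        simpa using this
      rcases hx ⟨_, ⟨⟨g, hg⟩, rfl⟩⟩ with h1 | h1 <;> rcases hx 1 with h0 | h0 <;>
        rcases hx ⟨_, ⟨⟨_, htN⟩, rfl⟩⟩ with h5 | h5
      all_goals first
        | exact Or.inl (congrArg Subtype.val (h1.trans h0.symm))
        | exact Or.inr (congrArg Subtype.val (h1.trans h5.symm))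
        | exact absurd (congrArg Subtype.val (h5.trans h0.symm)) hft
    set w : {x : fourS S eS i // x ≠ 1} :=
      ⟨⟨dihEmb S eS (dihInv m), dihInv m, (mem_fourD_iff h2).2 (Or.inr (Or.inl rfl)), rfl⟩, fun h => by
        have h1 : dihEmb S eS (dihInv m) = 1 := congrArg Subtype.val h
        have := (orderOf_injective _ (dihEmb_injective S eS) (dihInv m)).trans (orderOf_dihInv h2)
        rw [h1, orderOf_one] at this
        omega⟩
    have e := invoPerm_apply (fourS S eS i) ⟨g, hg⟩ w
    rcases hcases with h | h <;> rw [h] at e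
    · exact e.symm
    · rw [invoPerm_apply] at e
      rw [show (w.1 : X) = dihEmb S eS (dihInv m) from rfl] at e
      rw [← e, ← map_mul, ← map_inv, ← map_mul,
        (dihInv_commute h2 t).symm.eq, mul_inv_cancel_right]

omit [Finite X] in
/-- An element centralising a four-subgroup of a dihedral group lies in it. -/
theorem mem_fourS_of_commute (hm : 2 ≤ m) (i : ZMod m) {x : X} (hx : x ∈ (S : Subgroup X))
    (hc : ∀ u ∈ fourS S eS i, x * u = u * x) : x ∈ fourS S eS i := by
  rw [← dihEmb_range S eS] at hx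
  obtain ⟨d, rfl⟩ := hx
  refine ⟨d, Subgroup.mem_centralizer_singleton_iff.2 (dihEmb_injective S eS ?_), rfl⟩
  rw [map_mul, map_mul]
  exact hc _ ⟨sr i, Subgroup.mem_centralizer_singleton_iff.2 rfl, rfl⟩

include eS in
/-- A 2-element commuting with a four-subgroup lies in it. -/
theorem mem_of_commute_kleinFour (hm : 2 ≤ m) (U : Subgroup X) [IsKleinFour U] {x : X}
    (hx : ∃ k : ℕ, x ^ 2 ^ k = 1) (hc : ∀ u ∈ U, x * u = u * x) : x ∈ U := by
  haveI : Fact (Nat.Prime 2) := ⟨Nat.prime_two⟩
  obtain ⟨k, hk⟩ := hx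
  obtain ⟨j, -, hj⟩ := (Nat.dvd_prime_pow Nat.prime_two).1 (orderOf_dvd_of_pow_eq_one hk)
  have hP : IsPGroup 2 ↥(Subgroup.zpowers x ⊔ U) := by
    refine (IsPGroup.of_card (n := j) (by rw [Nat.card_zpowers, hj])).to_sup_of_normal_right'
      (isPGroup_kleinFour U) (Subgroup.zpowers_le.2 (Subgroup.mem_normalizer_iff.2 fun u => ?_))
    refine ⟨fun hu => by rwa [hc u hu, mul_inv_cancel_right], fun hu => ?_⟩
    have h1 := hc _ hu
    have h2 : u = x * u * x⁻¹ := mul_left_cancel (a := x) (Eq.trans (by group) h1.symm)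
    rwa [h2]
  obtain ⟨a, ha⟩ := exists_conj_le_sylow S hP
  obtain ⟨i, hi⟩ := exists_eq_fourS S eS hm _
    ((isKleinFour_map_iff _ (MulAut.conj a).injective U).2 inferInstance)
    ((Subgroup.map_mono le_sup_right).trans ha)
  have hxU : a * x * a⁻¹ ∈ fourS S eS i := by
    refine mem_fourS_of_commute S eS hm i
      (ha ⟨x, Subgroup.mem_sup_left (Subgroup.mem_zpowers x), rfl⟩) fun v hv => ?_
    rw [← hi] at hv
    obtain ⟨u, hu, rfl⟩ := hv
    simp only [MulEquiv.coe_toMonoidHom, MulAut.conj_apply]
    calc a * x * a⁻¹ * (a * u * a⁻¹) = a * (x * u) * a⁻¹ := by group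
      _ = a * u * a⁻¹ * (a * x * a⁻¹) := by rw [hc u hu]; group
  rw [← hi, Subgroup.mem_map_equiv, MulAut.conj_symm_apply] at hxU
  simpa [mul_assoc] using hxU

/-- Transfer: a small automiser of a four-subgroup gives a subgroup of index 2. -/
theorem exists_index_two_of_not_three_dvd (hm : 2 ≤ m) (i : ZMod m)
    (h3 : ¬ 3 ∣ (Subgroup.centralizer (fourS S eS i : Set X)).relIndex
      (Subgroup.normalizer (fourS S eS i : Set X))) :
    ∃ M : Subgroup X, M.index = 2 := by
  classical
  haveI : NeZero m := ⟨by omega⟩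
  haveI := isKleinFour_fourS S eS hm i
  obtain ⟨-, h2, -⟩ := dihedral_card S eS hm
  have hfix := fix_of_not_three_dvd S eS hm i h3
  set φ := ZMod.castHom h2 (ZMod 2)
  let χf : DihedralGroup m → Multiplicative (ZMod 2) := fun d => match d with
    | .r k => Multiplicative.ofAdd (φ k)
    | .sr k => Multiplicative.ofAdd (φ (k - i) + 1)
  let χ : DihedralGroup m →* Multiplicative (ZMod 2) := MonoidHom.mk' χf (by
    intro a b
    rcases a with a | a <;> rcases b with b | b <;>
      simp only [χf, r_mul_r, r_mul_sr, sr_mul_r, sr_mul_sr, ← ofAdd_add, map_add, map_sub] <;>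
      congr 1 <;> generalize φ a = a' <;> generalize φ b = b' <;> generalize φ i = i' <;>
      revert a' b' i' <;> decide)
  have hχi : χ (sr i) = Multiplicative.ofAdd 1 := by
    show Multiplicative.ofAdd (φ (i - i) + 1) = _
    rw [sub_self, map_zero, zero_add]
  have hone : Multiplicative.ofAdd (1 : ZMod 2) ≠ 1 := by decide
  set Q := χ.ker.map (dihEmb S eS)
  have hQS : Q ≤ (S : Subgroup X) := (Subgroup.map_le_range _ _).trans (dihEmb_range S eS).le
  have hQi : Q.relIndex (S : Subgroup X) = 2 := by
    rw [← dihEmb_range S eS, MonoidHom.range_eq_map,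
      Subgroup.relIndex_map_map_of_injective _ _ (dihEmb_injective S eS), Subgroup.relIndex_top_right,
      Subgroup.index_ker, MonoidHom.range_eq_top.2 ?_, Subgroup.card_top]
    · simp
    · intro y
      have hy : y = 1 ∨ y = Multiplicative.ofAdd 1 := by revert y; decide
      rcases hy with rfl | rfl
      · exact ⟨1, map_one _⟩
      · exact ⟨sr i, hχi⟩
  set z := dihEmb S eS (dihInv m) with hz
  set u := dihEmb S eS (sr i) with hu
  have huU : u ∈ fourS S eS i := ⟨sr i, (sr_mem_fourD_iff h2).2 (Or.inl rfl), rfl⟩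
  have hu2 : orderOf u = 2 :=
    (orderOf_injective _ (dihEmb_injective S eS) _).trans (orderOf_sr i)
  have hzu : z ≠ u := fun h => by simpa [dihInv] using dihEmb_injective S eS h
  -- `u` is not conjugate to `z`
  have huz : ∀ a : X, a * u * a⁻¹ ≠ z := by
    intro a ha
    set C := Subgroup.centralizer ({z} : Set X)
    set V := (fourS S eS i).map (MulAut.conj a).toMonoidHom
    haveI : IsKleinFour V := (isKleinFour_map_iff _ (MulAut.conj a).injective _).2 inferInstance
    have hVC : V ≤ C := by
      rintro _ ⟨v, hv, rfl⟩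
      refine Subgroup.mem_centralizer_singleton_iff.2 ?_
      rw [← ha]
      have hvu : v * u = u * v := congrArg Subtype.val (mul_comm_of_exponent_two
        IsKleinFour.exponent_two (⟨v, hv⟩ : fourS S eS i) ⟨u, huU⟩)
      show a * v * a⁻¹ * (a * u * a⁻¹) = a * u * a⁻¹ * (a * v * a⁻¹)
      calc a * v * a⁻¹ * (a * u * a⁻¹) = a * (v * u) * a⁻¹ := by group
        _ = a * u * a⁻¹ * (a * v * a⁻¹) := by rw [hvu]; group
    have hSC : (S : Subgroup X) ≤ C := by
      intro s hs
      rw [← dihEmb_range S eS] at hs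
      obtain ⟨d, rfl⟩ := hs
      refine Subgroup.mem_centralizer_singleton_iff.2 ?_
      rw [hz, ← map_mul, ← map_mul, (dihInv_commute h2 d).eq]
    obtain ⟨⟨c, hc⟩, hcV⟩ := exists_conj_le_sylow (S.subtype hSC)
      ((isPGroup_kleinFour V).of_equiv (Subgroup.subgroupOfEquivOfLe hVC).symm)
    set b := c * a with hb
    have hbu : b * u * b⁻¹ = z := by
      calc b * u * b⁻¹ = c * (a * u * a⁻¹) * c⁻¹ := by rw [hb]; group
        _ = z := by rw [ha, Subgroup.mem_centralizer_singleton_iff.1 hc, mul_inv_cancel_right]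
    have hbS : (fourS S eS i).map (MulAut.conj b).toMonoidHom ≤ (S : Subgroup X) := by
      rw [hb, ← map_conj_trans]
      rintro _ ⟨v, hv, rfl⟩
      exact Subgroup.mem_subgroupOf.1 (hcV ⟨⟨v, hVC hv⟩, Subgroup.mem_subgroupOf.2 hv, rfl⟩)
    obtain ⟨j, hj⟩ := exists_eq_fourS S eS hm _
      ((isKleinFour_map_iff _ (MulAut.conj b).injective _).2 inferInstance) hbS
    -- both four-subgroups are conjugate to standard ones
    obtain ⟨s, hs⟩ := exists_conj_fourD (m := m) i
    obtain ⟨t, ht⟩ := exists_conj_fourD (m := m) j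
    have key : ∀ d : DihedralGroup m, ∀ k, (fourD m k).map (MulAut.conj d).toMonoidHom = fourD m i →
        (fourS S eS k) = (fourS S eS i).map (MulAut.conj b).toMonoidHom → False := by
      intro d k hd hk
      have hmap : (fourS S eS i).map (MulAut.conj (dihEmb S eS d * b)).toMonoidHom = fourS S eS i := by
        rw [← map_conj_trans, ← hk, fourS_map_conj, hd, fourS]
      have hN : dihEmb S eS d * b ∈ Subgroup.normalizer (fourS S eS i : Set X) := by
        refine Subgroup.mem_normalizer_iff.2 fun x => ?_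
        conv_rhs => rw [← hmap, Subgroup.mem_map_equiv, MulAut.conj_symm_apply]
        simp [mul_assoc]
      have h1 := (hfix _ hN).1
      have h4 : dihEmb S eS d * b * u * (dihEmb S eS d * b)⁻¹ = z := by
        calc dihEmb S eS d * b * u * (dihEmb S eS d * b)⁻¹
            = dihEmb S eS d * (b * u * b⁻¹) * (dihEmb S eS d)⁻¹ := by group
          _ = z := by
            rw [hbu, hz, ← map_mul, (dihInv_commute h2 d).symm.eq, map_mul, mul_inv_cancel_right]
      exact hzu (mul_left_cancel (mul_right_cancel (h1.trans h4.symm)))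
    have hno : 2 < m → ∀ g : X, (fourS S eS 0).map (MulAut.conj g).toMonoidHom ≠ fourS S eS 1 :=
      fun h => not_conj_fourS S eS h
    have hS' : ∀ k l (d : DihedralGroup m), (fourD m k).map (MulAut.conj d).toMonoidHom = fourD m l →
        (fourS S eS k).map (MulAut.conj (dihEmb S eS d)).toMonoidHom = fourS S eS l :=
      fun k l d h => by rw [fourS_map_conj, h, fourS]
    by_cases hm2 : m = 2
    · refine key 1 j ?_ hj.symm
      subst hm2
      have h4 : ∀ k, fourD 2 k = (⊤ : Subgroup (DihedralGroup 2)) := fun k =>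
        Subgroup.eq_top_of_card_eq _ (by rw [card_fourD h2, DihedralGroup.nat_card])
      rw [h4, h4, MonoidHom.range_eq_map _ |>.symm, MonoidHom.range_eq_top.2 (MulAut.conj (1 : DihedralGroup 2)).surjective]
    · have conj_inv : ∀ k l (d : DihedralGroup m), (fourD m k).map (MulAut.conj d).toMonoidHom = fourD m l →
          (fourD m l).map (MulAut.conj d⁻¹).toMonoidHom = fourD m k := fun k l d h => by
        rw [← h, map_conj_trans, inv_mul_cancel]; ext x; simp
      rcases hs with hs | hs <;> rcases ht with ht | ht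
      · exact key (s⁻¹ * t) j (by rw [← map_conj_trans, ht, conj_inv _ _ _ hs]) hj.symm
      · refine hno (by omega) (dihEmb S eS t * b * dihEmb S eS s⁻¹) ?_
        rw [← map_conj_trans, hS' _ _ _ (conj_inv _ _ _ hs), ← map_conj_trans, hj, hS' _ _ _ ht]
      · refine hno (by omega) (dihEmb S eS s * b⁻¹ * dihEmb S eS t⁻¹) ?_
        rw [← map_conj_trans, hS' _ _ _ (conj_inv _ _ _ ht), ← map_conj_trans, ← hj, map_conj_trans (fourS S eS i),
          inv_mul_cancel, show (fourS S eS i).map (MulAut.conj (1 : X)).toMonoidHom = fourS S eS i from by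
            ext x; simp, hS' _ _ _ hs]
      · exact key (s⁻¹ * t) j (by rw [← map_conj_trans, ht, conj_inv _ _ _ hs]) hj.symm
  rcases Involution.thompson_transfer S Q hQS hQi u hu2 with ⟨M, -, hM, -⟩ | ⟨a, ha⟩
  · exact ⟨M, hM⟩
  exfalso
  obtain ⟨d, hd, hde⟩ := ha
  rw [SetLike.mem_coe, MonoidHom.mem_ker] at hd
  have hdord : orderOf d = 2 := by
    rw [← orderOf_injective _ (dihEmb_injective S eS) d, hde, ← hu2]
    exact MulEquiv.orderOf_eq (MulAut.conj a) u
  cases d with
  | r k =>
    have h0 : r k * r k = (1 : DihedralGroup m) := by rw [← pow_two, ← hdord, pow_orderOf_eq_one]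
    rw [r_mul_r, DihedralGroup.one_def, r.injEq] at h0
    rcases eq_zero_or_zhalf h0 with rfl | rfl
    · simp at hdord
    · exact huz a (by rw [← hde]; rfl)
  | sr k =>
    have hk : φ (k - i) = 1 := by
      have h0 : φ (k - i) + 1 = 0 := Multiplicative.ofAdd.injective hd
      revert h0
      generalize φ (k - i) = c
      revert c; decide
    -- `U` is a Sylow 2-subgroup of `C(u)`
    have hUC : fourS S eS i ≤ Subgroup.centralizer ({u} : Set X) := fun v hv =>
      Subgroup.mem_centralizer_singleton_iff.2 (congrArg Subtype.val (mul_comm_of_exponent_two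
        IsKleinFour.exponent_two (⟨v, hv⟩ : fourS S eS i) ⟨u, huU⟩))
    set C := Subgroup.centralizer ({u} : Set X) with hC
    obtain ⟨P, hP⟩ := ((isPGroup_kleinFour (fourS S eS i)).of_equiv
      (Subgroup.subgroupOfEquivOfLe hUC).symm).exists_le_sylow
    have hPU : ((P : Subgroup C).map C.subtype) = fourS S eS i := by
      have hle : fourS S eS i ≤ (P : Subgroup C).map C.subtype := fun v hv =>
        ⟨⟨v, hUC hv⟩, hP (Subgroup.mem_subgroupOf.2 hv), rfl⟩
      by_contra hne
      have hlt := lt_of_le_of_ne hle (Ne.symm hne)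
      haveI := ((P.2.map C.subtype) : IsPGroup 2 _).isNilpotent
      set P' := (P : Subgroup C).map C.subtype
      have hlt' : (fourS S eS i).subgroupOf P' < ⊤ := lt_top_iff_ne_top.2 fun h =>
        hlt.not_ge (Subgroup.subgroupOf_eq_top.1 h)
      obtain ⟨⟨y, hyP⟩, hy, hyU⟩ := SetLike.exists_of_lt
        (Group.normalizerCondition_of_isNilpotent (G := P') _ hlt')
      obtain ⟨p, hp, rfl⟩ := hyP
      have hyN : (p : X) ∈ Subgroup.normalizer (fourS S eS i : Set X) := by
        refine Subgroup.mem_normalizer_iff.2 fun v => ?_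
        constructor
        · intro hv
          have := (Subgroup.mem_normalizer_iff.1 hy ⟨v, hle hv⟩).1 (Subgroup.mem_subgroupOf.2 hv)
          simpa [Subgroup.mem_subgroupOf] using this
        · intro hv
          have hvP : v ∈ P' := by
            have hpP : (p : X) ∈ P' := ⟨p, hp, rfl⟩
            have := P'.mul_mem (P'.mul_mem (P'.inv_mem hpP) (hle hv)) hpP
            simpa [mul_assoc] using this
          simpa [Subgroup.mem_subgroupOf] using (Subgroup.mem_normalizer_iff.1 hy ⟨v, hvP⟩).2
            (by simpa [Subgroup.mem_subgroupOf] using hv)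
      have hpu : (p : X) * u = u * (p : X) := Subgroup.mem_centralizer_singleton_iff.1 p.2
      have hpz : (p : X) * z = z * (p : X) := mul_inv_eq_iff_eq_mul.1 (hfix _ hyN).1
      refine hyU (Subgroup.mem_subgroupOf.2 (mem_of_commute_kleinFour S eS hm _ ?_ fun v hv => ?_))
      · obtain ⟨l, hl⟩ := P.2 ⟨p, hp⟩
        exact ⟨l, congrArg (fun q : (P : Subgroup C) => ((q : C) : X)) hl⟩
      · obtain ⟨e, he, rfl⟩ := hv
        rcases (mem_fourD_iff h2).1 he with rfl | rfl | rfl | rfl
        · simp
        · exact hpz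
        · exact hpu
        · have hprod : dihEmb S eS (sr (i + zhalf m)) = u * z := by
            rw [hu, hz, ← map_mul, dihInv, sr_mul_r]
          rw [hprod]
          show (p : X) * (u * z) = u * z * (p : X)
          rw [← mul_assoc, hpu, mul_assoc, hpz, mul_assoc]
    -- pull the four-subgroup of `sr k` back into `C(u)`
    set V := (fourS S eS k).map (MulAut.conj a⁻¹).toMonoidHom
    haveI := isKleinFour_fourS S eS hm k
    haveI : IsKleinFour V := (isKleinFour_map_iff _ (MulAut.conj a⁻¹).injective _).2 inferInstance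
    have hVC : V ≤ C := by
      rintro _ ⟨v, hv, rfl⟩
      refine Subgroup.mem_centralizer_singleton_iff.2 ?_
      have hvk : v * dihEmb S eS (sr k) = dihEmb S eS (sr k) * v :=
        congrArg Subtype.val (mul_comm_of_exponent_two IsKleinFour.exponent_two
          (⟨v, hv⟩ : fourS S eS k) ⟨_, sr k, (sr_mem_fourD_iff h2).2 (Or.inl rfl), rfl⟩)
      rw [hde] at hvk
      show a⁻¹ * v * a⁻¹⁻¹ * u = u * (a⁻¹ * v * a⁻¹⁻¹)
      calc a⁻¹ * v * a⁻¹⁻¹ * u = a⁻¹ * (v * (a * u * a⁻¹)) * a := by simp [mul_assoc]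
        _ = a⁻¹ * ((a * u * a⁻¹) * v) * a := by rw [hvk]
        _ = u * (a⁻¹ * v * a⁻¹⁻¹) := by simp [mul_assoc]
    obtain ⟨⟨c, hc⟩, hcV⟩ := exists_conj_le_sylow P
      ((isPGroup_kleinFour V).of_equiv (Subgroup.subgroupOfEquivOfLe hVC).symm)
    have hmap : (fourS S eS k).map (MulAut.conj (c * a⁻¹)).toMonoidHom = fourS S eS i := by
      refine Subgroup.eq_of_le_of_card_ge ?_ (by
        rw [IsKleinFour.card_four, ((isKleinFour_map_iff _ (MulAut.conj (c * a⁻¹)).injective _).2
          inferInstance).card_four])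
      rw [← map_conj_trans]
      rintro _ ⟨v, hv, rfl⟩
      rw [← hPU]
      exact ⟨_, hcV ⟨⟨v, hVC hv⟩, Subgroup.mem_subgroupOf.2 hv, rfl⟩, rfl⟩
    by_cases hm2 : m = 2
    · -- then everything in `U` is fixed
      subst hm2
      have hki : fourS S eS k = fourS S eS i := by
        rw [fourS, fourS, Subgroup.eq_top_of_card_eq (fourD 2 k) (by rw [card_fourD h2, DihedralGroup.nat_card]),
          Subgroup.eq_top_of_card_eq (fourD 2 i) (by rw [card_fourD h2, DihedralGroup.nat_card])]
      rw [hki] at hmap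
      have hN : c * a⁻¹ ∈ Subgroup.normalizer (fourS S eS i : Set X) := by
        refine Subgroup.mem_normalizer_iff.2 fun x => ?_
        conv_rhs => rw [← hmap, Subgroup.mem_map_equiv, MulAut.conj_symm_apply]
        simp [mul_assoc]
      have hall := (hfix _ hN).2 rfl (dihEmb S eS (sr k)) (hki ▸ ⟨sr k, (sr_mem_fourD_iff h2).2 (Or.inl rfl), rfl⟩)
      rw [hde] at hall
      have h5 : u = a * u * a⁻¹ := by
        calc u = c * u * c⁻¹ := by rw [Subgroup.mem_centralizer_singleton_iff.1 hc, mul_inv_cancel_right]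
          _ = c * a⁻¹ * (a * u * a⁻¹) * (c * a⁻¹)⁻¹ := by simp [mul_assoc]
          _ = a * u * a⁻¹ := hall
      have h6 : sr i = sr k := dihEmb_injective S eS (h5.trans hde.symm)
      rw [sr.injEq] at h6
      rw [h6, sub_self, map_zero] at hk
      exact absurd hk (by decide)
    · -- parity distinguishes the classes
      have hpar : ∀ l : ZMod m, ∃ t : DihedralGroup m, (fourD m l).map (MulAut.conj t).toMonoidHom =
          fourD m (if φ l = 0 then 0 else 1) := by
        intro l
        obtain ⟨t, ht⟩ := exists_conj_fourD (m := m) l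
        refine ⟨t, ?_⟩
        have hmem : ∀ j, (fourD m l).map (MulAut.conj t).toMonoidHom = fourD m j → φ j = φ l := by
          intro j hj
          have h1 : t * sr l * t⁻¹ ∈ fourD m j := hj ▸ ⟨sr l, (sr_mem_fourD_iff h2).2 (Or.inl rfl), rfl⟩
          have hdbl : ∀ x : ZMod 2, x + x = 0 := by decide
          have hφh : φ (zhalf m) = 0 := zhalf_castHom ((dihedral_card S eS hm).2.2 (by omega))
          obtain ⟨e, he, hee⟩ : ∃ e : ZMod m, φ e = φ l ∧ t * sr l * t⁻¹ = sr e := by
            cases t with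
            | r q => exact ⟨_, by rw [map_sub, two_mul, map_add, hdbl, sub_zero], r_conj_sr q l⟩
            | sr q =>
              refine ⟨q + q - l, by rw [map_sub, map_add, hdbl, zero_sub, ZMod.neg_eq_self_mod_two], ?_⟩
              rw [sr_mul_sr, inv_sr, r_mul_sr]; congr 1; ring
          rw [hee, sr_mem_fourD_iff h2] at h1
          rcases h1 with rfl | rfl
          · exact he
          · rw [map_add, hφh, add_zero] at he; exact he
        rcases ht with ht | ht
        · rw [if_pos ((hmem 0 ht).symm.trans (map_zero φ))]; exact ht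
        · rw [if_neg (by rw [← hmem 1 ht, map_one]; decide)]; exact ht
      obtain ⟨s, hs⟩ := hpar i
      obtain ⟨t, ht⟩ := hpar k
      have conj_inv : ∀ (U W : Subgroup X) (d : X), U.map (MulAut.conj d).toMonoidHom = W →
          W.map (MulAut.conj d⁻¹).toMonoidHom = U := fun U W d h => by
        rw [← h, map_conj_trans, inv_mul_cancel]; ext x; simp
      have hs' : (fourS S eS i).map (MulAut.conj (dihEmb S eS s)).toMonoidHom =
          fourS S eS (if φ i = 0 then 0 else 1) := by rw [fourS_map_conj, hs, fourS]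
      have ht' : (fourS S eS k).map (MulAut.conj (dihEmb S eS t)).toMonoidHom =
          fourS S eS (if φ k = 0 then 0 else 1) := by rw [fourS_map_conj, ht, fourS]
      by_cases hi0 : φ i = 0
      · have hk0 : ¬ φ k = 0 := fun h => by
          rw [map_sub, h, hi0, sub_zero] at hk; exact absurd hk (by decide)
        rw [if_pos hi0] at hs'
        rw [if_neg hk0] at ht'
        refine not_conj_fourS S eS (by omega)
          (dihEmb S eS t * ((c * a⁻¹)⁻¹ * (dihEmb S eS s)⁻¹)) ?_
        rw [← map_conj_trans, ← map_conj_trans, conj_inv _ _ _ hs', conj_inv _ _ _ hmap, ht']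
      · have hk0 : φ k = 0 := by
          rw [map_sub] at hk
          revert hk hi0
          generalize φ i = x
          generalize φ k = y
          revert x y; decide
        rw [if_neg hi0] at hs'
        rw [if_pos hk0] at ht'
        refine not_conj_fourS S eS (by omega)
          (dihEmb S eS s * ((c * a⁻¹) * (dihEmb S eS t)⁻¹)) ?_
        rw [← map_conj_trans, ← map_conj_trans, conj_inv _ _ _ ht', hmap, hs']

end Cfsg.Agent.Lib.SECount
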