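import Mathlib
import Cfsg.Agent.Lib.SECount.Basic

/-!
Groups with a noncyclic, non-normal Sylow 2-subgroup `T` in which all centralizers of involutions
are elementary abelian 2-groups (the setting of the statements S1226–S1230).
-/

set_option autoImplicit false

namespace Cfsg.Agent.Lib.SECount

variable {G : Type*} [Group G] [Finite G]

/-- The hypothesis on centralizers of involutions. -/
def ElemCentralizers (G : Type*) [Group G] : Prop :=
  ∀ t : G, orderOf t = 2 → IsMulCommutative (Subgroup.centralizer ({t} : Set G)) ∧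
    ∀ c ∈ Subgroup.centralizer ({t} : Set G), c ^ 2 = 1

variable (T : Sylow 2 G)

theorem two_dvd_card_sylow (hnc : ¬ IsCyclic (T : Subgroup G)) : 2 ∣ Nat.card T := by
  haveI : Fact (Nat.Prime 2) := ⟨Nat.prime_two⟩
  obtain ⟨n, hn⟩ := IsPGroup.iff_card.1 T.2
  rcases Nat.eq_zero_or_pos n with rfl | hn0
  · exact absurd (@isCyclic_of_subsingleton _ _ (Nat.card_eq_one_iff_unique.1 (by simpa using hn)).1) hnc
  · exact hn ▸ dvd_pow_self 2 (by omega)

theorem sylow_elemAb (hC : ElemCentralizers G) :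
    (∀ a ∈ (T : Subgroup G), ∀ b ∈ (T : Subgroup G), a * b = b * a) ∧
      ∀ a ∈ (T : Subgroup G), a ^ 2 = 1 := by
  haveI : Fact (Nat.Prime 2) := ⟨Nat.prime_two⟩
  rcases subsingleton_or_nontrivial (T : Subgroup G) with h | h
  · refine ⟨fun a ha b hb => ?_, fun a ha => ?_⟩
    · rw [show a = b from congrArg Subtype.val (Subsingleton.elim (⟨a, ha⟩ : (T : Subgroup G)) ⟨b, hb⟩)]
    · rw [show a = 1 from congrArg Subtype.val (Subsingleton.elim (⟨a, ha⟩ : (T : Subgroup G)) 1)]
      exact one_pow 2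
  · haveI := T.2.center_nontrivial
    obtain ⟨n, hn, hcard⟩ := (T.2.to_subgroup (Subgroup.center (T : Subgroup G))).nontrivial_iff_card.1
      inferInstance
    obtain ⟨z, hz⟩ := exists_prime_orderOf_dvd_card' (G := Subgroup.center (T : Subgroup G)) 2
      (hcard ▸ dvd_pow_self 2 (by omega))
    have hzG : orderOf ((z.1 : G)) = 2 := by rw [Subgroup.orderOf_coe, Subgroup.orderOf_coe, hz]
    obtain ⟨hab, hexp⟩ := hC _ hzG
    have hle : ∀ a ∈ (T : Subgroup G), a ∈ Subgroup.centralizer ({(z.1 : G)} : Set G) := fun a ha =>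
      Subgroup.mem_centralizer_singleton_iff.2
        (congrArg Subtype.val (Subgroup.mem_center_iff.1 z.2 ⟨a, ha⟩))
    refine ⟨fun a ha b hb => ?_, fun a ha => hexp a (hle a ha)⟩
    exact congrArg Subtype.val (hab.is_comm.comm ⟨a, hle a ha⟩ ⟨b, hle b hb⟩)

theorem centralizer_eq_sylow (hC : ElemCentralizers G) {t : G} (ht : orderOf t = 2)
    (htT : t ∈ (T : Subgroup G)) :
    Subgroup.centralizer ({t} : Set G) = (T : Subgroup G) := by
  haveI : Fact (Nat.Prime 2) := ⟨Nat.prime_two⟩
  refine T.is_maximal' (fun c => ⟨1, Subtype.ext ?_⟩) fun a ha =>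
    Subgroup.mem_centralizer_singleton_iff.2 ((sylow_elemAb T hC).1 a ha t htT)
  simpa using (hC t ht).2 c c.2

theorem invo_mem_normalizer_iff {t : G} (ht : orderOf t = 2) :
    t ∈ Subgroup.normalizer ((T : Subgroup G) : Set G) ↔ t ∈ (T : Subgroup G) := by
  refine ⟨fun h => ?_, fun h => Subgroup.le_normalizer h⟩
  have hp : IsPGroup 2 (Subgroup.zpowers t) :=
    IsPGroup.of_card (n := 1) (by rw [Nat.card_zpowers, ht, pow_one])
  have hsup := T.2.to_sup_of_normal_left' hp (Subgroup.zpowers_le.2 h)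
  exact T.is_maximal' hsup le_sup_left ▸ le_sup_right (a := (T : Subgroup G))
    (Subgroup.mem_zpowers t)

theorem isStronglyEmbedded_normalizer (hnc : ¬ IsCyclic (T : Subgroup G))
    (hnn : ¬ (T : Subgroup G).Normal) (hC : ElemCentralizers G) :
    Cfsg.IsStronglyEmbedded (Subgroup.normalizer ((T : Subgroup G) : Set G)) := by
  haveI : Fact (Nat.Prime 2) := ⟨Nat.prime_two⟩
  refine ⟨fun h => hnn (Subgroup.normalizer_eq_top_iff.1 h), ?_, fun g hg => ?_⟩
  · exact even_iff_two_dvd.2 ((two_dvd_card_sylow T hnc).trans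
      (Subgroup.card_dvd_of_le Subgroup.le_normalizer))
  · rw [← Nat.not_even_iff_odd, even_iff_two_dvd]
    intro hdvd
    obtain ⟨⟨x, hx1, hx2⟩, hx'⟩ := exists_prime_orderOf_dvd_card' 2 hdvd
    have hx : orderOf x = 2 := (Subgroup.orderOf_coe _).trans hx'
    have hxT := (invo_mem_normalizer_iff T hx).1 hx1
    replace hx2 := mem_map_conj.1 hx2
    have hy : orderOf (g⁻¹ * x * g) = 2 := by
      simpa using (orderOf_conj_eq g⁻¹ x).trans hx
    have hyT := (invo_mem_normalizer_iff T hy).1 hx2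
    apply hg
    rw [Subgroup.mem_normalizer_iff]
    intro a
    constructor <;> intro ha
    · rw [← centralizer_eq_sylow T hC hx hxT,
        Subgroup.mem_centralizer_singleton_iff]
      rw [← centralizer_eq_sylow T hC hy hyT,
        Subgroup.mem_centralizer_singleton_iff] at ha
      calc g * a * g⁻¹ * x = g * (a * (g⁻¹ * x * g)) * g⁻¹ := by group
        _ = x * (g * a * g⁻¹) := by rw [ha]; group
    · rw [← centralizer_eq_sylow T hC hy hyT,
        Subgroup.mem_centralizer_singleton_iff]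
      rw [← centralizer_eq_sylow T hC hx hxT,
        Subgroup.mem_centralizer_singleton_iff] at ha
      calc a * (g⁻¹ * x * g) = g⁻¹ * ((g * a * g⁻¹) * x) * g := by group
        _ = g⁻¹ * x * g * a := by rw [ha]; group

end Cfsg.Agent.Lib.SECount
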