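import Mathlib
import Cfsg.Agent.Lib.SECount.ElemAbCentralizer

/-!
With `H = N(T)`, `u` an involution outside `H` and `D = H ∩ uHu⁻¹`: `u` inverts `D`, `H = TD`,
`N(D) = D⟨u⟩`, and `G` is sharply triply transitive on `G ⧸ H`.
-/

set_option autoImplicit false

namespace Cfsg.Agent.Lib.SECount

variable {G : Type*} [Group G]

/-- `H = N(T)` -/
abbrev sylowNorm (T : Sylow 2 G) : Subgroup G := Subgroup.normalizer ((T : Subgroup G) : Set G)

/-- `D = H ∩ uHu⁻¹` -/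
abbrev twoPointGroup (T : Sylow 2 G) (u : G) : Subgroup G :=
  sylowNorm T ⊓ (sylowNorm T).map (MulAut.conj u).toMonoidHom

variable [Finite G] (T : Sylow 2 G)

theorem mem_twoPointGroup_iff {u d : G} :
    d ∈ twoPointGroup T u ↔ d ∈ sylowNorm T ∧ u⁻¹ * d * u ∈ sylowNorm T :=
  and_congr Iff.rfl mem_map_conj

theorem four_le_card (hnc : ¬ IsCyclic (T : Subgroup G)) : 4 ≤ Nat.card T := by
  haveI : Fact (Nat.Prime 2) := ⟨Nat.prime_two⟩
  obtain ⟨n, hn⟩ := IsPGroup.iff_card.1 T.2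
  have hn2 : 2 ≤ n := by
    by_contra h
    obtain rfl | rfl : n = 0 ∨ n = 1 := by omega
    · exact hnc (@isCyclic_of_subsingleton _ _ (Nat.card_eq_one_iff_unique.1 (by simpa using hn)).1)
    · exact hnc (isCyclic_of_prime_card (p := 2) (by simpa using hn))
  exact hn ▸ Nat.pow_le_pow_right (n := 2) (by norm_num) hn2

theorem orderOf_eq_two_of_mem (hC : ElemCentralizers G) {x : G} (hx : x ∈ (T : Subgroup G))
    (h1 : x ≠ 1) : orderOf x = 2 :=
  orderOf_eq_prime ((sylow_elemAb T hC).2 x hx) h1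

variable (hnc : ¬ IsCyclic (T : Subgroup G)) (hnn : ¬ (T : Subgroup G).Normal)
  (hC : ElemCentralizers G)
include hnc hnn hC

theorem inf_sylow_eq_one {u x : G} (huH : u ∉ sylowNorm T) (hx : x ∈ twoPointGroup T u)
    (hxT : x ∈ (T : Subgroup G)) : x = 1 := by
  by_contra h1
  have hodd := (isStronglyEmbedded_normalizer T hnc hnn hC).2.2 u huH
  have hdvd := orderOf_dvd_natCard (⟨x, hx⟩ : twoPointGroup T u)
  rw [Subgroup.orderOf_mk, orderOf_eq_two_of_mem T hC hxT h1] at hdvd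
  exact (Nat.not_even_iff_odd.2 hodd) (even_iff_two_dvd.2 hdvd)

theorem card_invo_norm :
    Nat.card {t : G // orderOf t = 2 ∧ t ∈ sylowNorm T} = Nat.card T - 1 := by
  classical
  haveI : Fintype (T : Subgroup G) := Fintype.ofFinite _
  let e : {t : G // orderOf t = 2 ∧ t ∈ sylowNorm T} ≃ {x : (T : Subgroup G) // x ≠ 1} :=
    { toFun := fun t => ⟨⟨t.1, (invo_mem_normalizer_iff T t.2.1).1 t.2.2⟩, fun h =>
        invo_ne_one t.2.1 (congrArg Subtype.val h)⟩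
      invFun := fun x => ⟨x.1.1, orderOf_eq_two_of_mem T hC x.1.2 fun h => x.2 (Subtype.ext h),
        Subgroup.le_normalizer x.1.2⟩
      left_inv := fun _ => rfl
      right_inv := fun _ => rfl }
  rw [Nat.card_congr e, Nat.card_eq_fintype_card, Fintype.card_subtype_compl,
    Fintype.card_subtype_eq, ← Nat.card_eq_fintype_card]

theorem card_twoPointGroup {u : G} (hu : orderOf u = 2) (huH : u ∉ sylowNorm T) :
    Nat.card (twoPointGroup T u) = Nat.card {t : G // orderOf t = 2 ∧ t ∈ sylowNorm T} := by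
  have hH := isStronglyEmbedded_normalizer T hnc hnn hC
  obtain ⟨t, ht, htH⟩ := exists_invo_mem hH
  let f : twoPointGroup T u → {t : G // orderOf t = 2 ∧ t ∈ sylowNorm T} := fun d =>
    ⟨d.1 * t * d.1⁻¹, (orderOf_conj_eq _ _).trans ht,
      Subgroup.mul_mem _ (Subgroup.mul_mem _ d.2.1 htH) (Subgroup.inv_mem _ d.2.1)⟩
  refine Nat.card_eq_of_bijective f ⟨fun a b h => ?_, ?_⟩
  · have h' : a.1 * t * a.1⁻¹ = b.1 * t * b.1⁻¹ := congrArg Subtype.val h
    have hc : (a.1)⁻¹ * b.1 ∈ Subgroup.centralizer ({t} : Set G) :=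
      Subgroup.mem_centralizer_singleton_iff.2 (by
        calc a.1⁻¹ * b.1 * t = a.1⁻¹ * (b.1 * t * b.1⁻¹) * b.1 := by group
          _ = t * (a.1⁻¹ * b.1) := by rw [← h']; group)
    rw [centralizer_eq_sylow T hC ht ((invo_mem_normalizer_iff T ht).1 htH)] at hc
    exact Subtype.ext (inv_mul_eq_one.1 (inf_sylow_eq_one T hnc hnn hC huH
      (Subgroup.mul_mem _ (Subgroup.inv_mem _ a.2) b.2) hc))
  · rintro ⟨s, hs, hsH⟩
    obtain ⟨d, hd, hds⟩ := exists_conj_mem_inf hH hu huH ht htH hs hsH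
    exact ⟨⟨d, hd⟩, Subtype.ext hds⟩

theorem inverts_twoPointGroup {u : G} (hu : orderOf u = 2) (huH : u ∉ sylowNorm T) {d : G}
    (hd : d ∈ twoPointGroup T u) : u * d * u⁻¹ = d⁻¹ := by
  have hH := isStronglyEmbedded_normalizer T hnc hnn hC
  have key : ∀ i : G, orderOf i = 2 → u⁻¹ * i ∈ sylowNorm T → u⁻¹ * i ∈ twoPointGroup T u := by
    intro i hi hiH
    refine (mem_twoPointGroup_iff T).2 ⟨hiH, ?_⟩
    have h := Subgroup.inv_mem _ hiH
    rw [mul_inv_rev, invo_inv hi, inv_inv] at h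
    rwa [← mul_assoc, invo_inv hu, invo_sq hu, one_mul]
  let f : {i : G // orderOf i = 2 ∧ u⁻¹ * i ∈ sylowNorm T} → twoPointGroup T u := fun i =>
    ⟨u⁻¹ * i.1, key i.1 i.2.1 i.2.2⟩
  have hinj : Function.Injective f := fun a b h =>
    Subtype.ext (mul_left_cancel (congrArg Subtype.val h))
  have hsurj := ((Nat.bijective_iff_injective_and_card f).2 ⟨hinj,
    (card_coset_invo hH huH).trans (card_twoPointGroup T hnc hnn hC hu huH).symm⟩).2
  obtain ⟨⟨i, hi, hiH⟩, hid⟩ := hsurj ⟨d, hd⟩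
  have hid' : u⁻¹ * i = d := congrArg Subtype.val hid
  rw [← hid', mul_inv_rev, invo_inv hi, inv_inv, mul_inv_cancel_left, invo_inv hu]

theorem twoPointGroup_comm {u : G} (hu : orderOf u = 2) (huH : u ∉ sylowNorm T) {d e : G}
    (hd : d ∈ twoPointGroup T u) (he : e ∈ twoPointGroup T u) : d * e = e * d := by
  have h := inverts_twoPointGroup T hnc hnn hC hu huH (Subgroup.mul_mem _ hd he)
  have h1 := inverts_twoPointGroup T hnc hnn hC hu huH hd
  have h2 := inverts_twoPointGroup T hnc hnn hC hu huH he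
  have h3 : d⁻¹ * e⁻¹ = (d * e)⁻¹ := by rw [← h, ← h1, ← h2]; group
  calc d * e = (e⁻¹ * d⁻¹)⁻¹ := by group
    _ = (d⁻¹ * e⁻¹)⁻¹ := by rw [h3, mul_inv_rev d e]
    _ = e * d := by group

theorem exists_decomp {u : G} (hu : orderOf u = 2) (huH : u ∉ sylowNorm T) {h : G}
    (hh : h ∈ sylowNorm T) :
    ∃ d ∈ twoPointGroup T u, ∃ a ∈ (T : Subgroup G), h = d * a := by
  have hH := isStronglyEmbedded_normalizer T hnc hnn hC
  obtain ⟨t, ht, htH⟩ := exists_invo_mem hH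
  obtain ⟨d, hd, hdt⟩ := exists_conj_mem_inf hH hu huH ht htH
    ((orderOf_conj_eq h t).trans ht)
    (Subgroup.mul_mem _ (Subgroup.mul_mem _ hh htH) (Subgroup.inv_mem _ hh))
  refine ⟨d, hd, d⁻¹ * h, ?_, (mul_inv_cancel_left d h).symm⟩
  rw [← centralizer_eq_sylow T hC ht ((invo_mem_normalizer_iff T ht).1 htH),
    Subgroup.mem_centralizer_singleton_iff]
  calc d⁻¹ * h * t = d⁻¹ * (h * t * h⁻¹) * h := by group
    _ = t * (d⁻¹ * h) := by rw [← hdt]; group

theorem mem_twoPointGroup_of_commute {u : G} (hu : orderOf u = 2) (huH : u ∉ sylowNorm T)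
    {d h : G} (hd : d ∈ twoPointGroup T u) (hd1 : d ≠ 1) (hh : h ∈ sylowNorm T)
    (hc : h * d = d * h) : h ∈ twoPointGroup T u := by
  obtain ⟨e, he, a, ha, rfl⟩ := exists_decomp T hnc hnn hC hu huH hh
  by_cases ha1 : a = 1
  · simpa [ha1] using he
  · exfalso
    refine hd1 (inf_sylow_eq_one T hnc hnn hC huH hd ?_)
    rw [← centralizer_eq_sylow T hC (orderOf_eq_two_of_mem T hC ha ha1) ha,
      Subgroup.mem_centralizer_singleton_iff]
    refine mul_left_cancel (a := e) ?_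
    rw [← mul_assoc, ← twoPointGroup_comm T hnc hnn hC hu huH hd he, mul_assoc, ← hc, mul_assoc]

theorem exists_conj_mem_twoPointGroup {u : G} (hu : orderOf u = 2) (huH : u ∉ sylowNorm T)
    {h : G} (hh : h ∈ sylowNorm T) (hhT : h ∉ (T : Subgroup G)) :
    ∃ x ∈ (T : Subgroup G), x⁻¹ * h * x ∈ twoPointGroup T u ∧ x⁻¹ * h * x ≠ 1 := by
  obtain ⟨d, hd, a, ha, rfl⟩ := exists_decomp T hnc hnn hC hu huH hh
  have hd1 : d ≠ 1 := fun h1 => hhT (by simpa [h1] using ha)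
  have hdT : ∀ x ∈ (T : Subgroup G), d⁻¹ * x * d * x⁻¹ ∈ (T : Subgroup G) := fun x hx =>
    Subgroup.mul_mem _ (Subgroup.mem_normalizer_iff''.1 hd.1 x |>.1 hx) (Subgroup.inv_mem _ hx)
  let f : ↥(T : Subgroup G) → ↥(T : Subgroup G) := fun x => ⟨_, hdT x.1 x.2⟩
  have hinj : Function.Injective f := by
    intro x y hxy
    have hxy' : d⁻¹ * x.1 * d * x.1⁻¹ = d⁻¹ * y.1 * d * y.1⁻¹ := congrArg Subtype.val hxy
    have hc : d * (y.1⁻¹ * x.1) = y.1⁻¹ * x.1 * d := by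
      calc d * (y.1⁻¹ * x.1) = (d * y.1⁻¹ * d⁻¹ * y.1) * (y.1⁻¹ * d * x.1) := by group
        _ = (y.1⁻¹ * x.1) * d := ?_
      have h2 : x.1⁻¹ * y.1 = d⁻¹ * x.1⁻¹ * y.1 * d := by
        calc x.1⁻¹ * y.1 = (d⁻¹ * x.1⁻¹ * d) * (d⁻¹ * x.1 * d * x.1⁻¹) * y.1 := by group
          _ = (d⁻¹ * x.1⁻¹ * d) * (d⁻¹ * y.1 * d * y.1⁻¹) * y.1 := by rw [hxy']
          _ = d⁻¹ * x.1⁻¹ * y.1 * d := by group
      calc d * y.1⁻¹ * d⁻¹ * y.1 * (y.1⁻¹ * d * x.1) = d * (x.1⁻¹ * y.1)⁻¹ := by group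
        _ = y.1⁻¹ * x.1 * d := by rw [h2]; group
    by_contra hne
    have hm : y.1⁻¹ * x.1 ∈ (T : Subgroup G) :=
      Subgroup.mul_mem _ (Subgroup.inv_mem _ y.2) x.2
    have hne' : y.1⁻¹ * x.1 ≠ 1 := fun h => hne (Subtype.ext (inv_mul_eq_one.1 h).symm)
    refine hd1 (inf_sylow_eq_one T hnc hnn hC huH hd ?_)
    rw [← centralizer_eq_sylow T hC (orderOf_eq_two_of_mem T hC hm hne') hm,
      Subgroup.mem_centralizer_singleton_iff]
    exact hc
  obtain ⟨x, hx⟩ := Finite.injective_iff_surjective.1 hinj ⟨a, ha⟩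
  have hx' : d⁻¹ * x.1 * d * x.1⁻¹ = a := congrArg Subtype.val hx
  have he : x.1⁻¹ * (d * a) * x.1 = d := by
    rw [← hx']
    group
  exact ⟨x.1, x.2, by rw [he]; exact hd, by rw [he]; exact hd1⟩

theorem two_le_twoPointGroup {u : G} (hu : orderOf u = 2) (huH : u ∉ sylowNorm T) :
    ∃ d ∈ twoPointGroup T u, d ≠ 1 := by
  by_contra hh
  push Not at hh
  have h1 : twoPointGroup T u = ⊥ := (Subgroup.eq_bot_iff_forall _).2 hh
  have := card_twoPointGroup T hnc hnn hC hu huH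
  rw [card_invo_norm T hnc hnn hC, h1, Subgroup.card_bot] at this
  have := four_le_card T hnc
  omega

theorem exists_conj_eq_twoPointGroup {u v : G} (hu : orderOf u = 2) (huH : u ∉ sylowNorm T)
    (hv : orderOf v = 2) (hvH : v ∉ sylowNorm T) :
    ∃ x ∈ (T : Subgroup G), ∀ d ∈ twoPointGroup T u, x * d * x⁻¹ ∈ twoPointGroup T v := by
  obtain ⟨e, he, he1⟩ := two_le_twoPointGroup T hnc hnn hC hv hvH
  obtain ⟨x, hx, hxe, hxe1⟩ := exists_conj_mem_twoPointGroup T hnc hnn hC hu huH he.1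
    (fun h => he1 (inf_sylow_eq_one T hnc hnn hC hvH he h))
  refine ⟨x, hx, fun d hd => mem_twoPointGroup_of_commute T hnc hnn hC hv hvH he he1 ?_ ?_⟩
  · exact Subgroup.mul_mem _ (Subgroup.mul_mem _ (Subgroup.le_normalizer hx) hd.1)
      (Subgroup.inv_mem _ (Subgroup.le_normalizer hx))
  · calc x * d * x⁻¹ * e = x * (d * (x⁻¹ * e * x)) * x⁻¹ := by group
      _ = x * ((x⁻¹ * e * x) * d) * x⁻¹ := by rw [twoPointGroup_comm T hnc hnn hC hu huH hd hxe]
      _ = e * (x * d * x⁻¹) := by group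

/-- An involution in the coset `gH`. -/
theorem exists_invo_coset {g : G} (hg : g ∉ sylowNorm T) :
    ∃ i : G, orderOf i = 2 ∧ g⁻¹ * i ∈ sylowNorm T ∧ i ∉ sylowNorm T := by
  have hH := isStronglyEmbedded_normalizer T hnc hnn hC
  have h : Nat.card {i : G // orderOf i = 2 ∧ g⁻¹ * i ∈ sylowNorm T} ≠ 0 := by
    rw [card_coset_invo hH hg, card_invo_norm T hnc hnn hC]
    have := four_le_card T hnc
    omega
  obtain ⟨⟨i, hi, hiH⟩⟩ := (Nat.card_ne_zero.1 h).1
  exact ⟨i, hi, hiH, fun h' => hg (by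
    simpa using Subgroup.mul_mem _ h' (Subgroup.inv_mem _ hiH))⟩

omit hnc hnn hC in
theorem mem_twoPointGroup_congr {g i d : G} (hiH : g⁻¹ * i ∈ sylowNorm T) :
    d ∈ twoPointGroup T i ↔ d ∈ sylowNorm T ∧ g⁻¹ * d * g ∈ sylowNorm T := by
  rw [mem_twoPointGroup_iff]
  refine and_congr_right fun _ => ?_
  have he : i⁻¹ * d * i = (g⁻¹ * i)⁻¹ * (g⁻¹ * d * g) * (g⁻¹ * i) := by group
  rw [he]
  constructor
  · intro h
    have := Subgroup.mul_mem _ (Subgroup.mul_mem _ hiH h) (Subgroup.inv_mem _ hiH)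
    simpa [mul_assoc] using this
  · exact fun h => Subgroup.mul_mem _ (Subgroup.mul_mem _ (Subgroup.inv_mem _ hiH) h) hiH

theorem mem_twoPointGroup_of_mem_normalizer {u n : G} (hu : orderOf u = 2)
    (huH : u ∉ sylowNorm T) (hn : n ∈ Subgroup.normalizer (twoPointGroup T u : Set G))
    (hnH : n ∈ sylowNorm T) : n ∈ twoPointGroup T u := by
  obtain ⟨d, hd, hd1⟩ := two_le_twoPointGroup T hnc hnn hC hu huH
  obtain ⟨e, he, a, ha, rfl⟩ := exists_decomp T hnc hnn hC hu huH hnH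
  have han : a ∈ Subgroup.normalizer (twoPointGroup T u : Set G) := by
    simpa using Subgroup.mul_mem _ (Subgroup.inv_mem _ (Subgroup.le_normalizer he)) hn
  have h1 : a * d * a⁻¹ * d⁻¹ = 1 := by
    refine inf_sylow_eq_one T hnc hnn hC huH
      (Subgroup.mul_mem _ ((Subgroup.mem_normalizer_iff.1 han d).1 hd) (Subgroup.inv_mem _ hd)) ?_
    rw [show a * d * a⁻¹ * d⁻¹ = a * (d * a⁻¹ * d⁻¹) by group]
    exact Subgroup.mul_mem _ ha ((Subgroup.mem_normalizer_iff.1 hd.1 a⁻¹).1 (Subgroup.inv_mem _ ha))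
  exact Subgroup.mul_mem _ he (mem_twoPointGroup_of_commute T hnc hnn hC hu huH hd hd1
    (Subgroup.le_normalizer ha) (by simpa [mul_inv_eq_one, mul_inv_eq_iff_eq_mul] using h1))

/-- The cosets fixed by `D` are `H` and `uH`. -/
theorem eq_of_fixed {u g : G} (hu : orderOf u = 2) (huH : u ∉ sylowNorm T)
    (hg : g ∉ sylowNorm T) (hfix : ∀ d ∈ twoPointGroup T u, g⁻¹ * d * g ∈ sylowNorm T) :
    u⁻¹ * g ∈ sylowNorm T := by
  by_contra hne
  obtain ⟨i, hi, hgi, hiH⟩ := exists_invo_coset T hnc hnn hC hg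
  have hDD : ∀ d, d ∈ twoPointGroup T u ↔ d ∈ twoPointGroup T i := by
    have hle : twoPointGroup T u ≤ twoPointGroup T i := fun d hd =>
      (mem_twoPointGroup_congr T hgi).2 ⟨hd.1, hfix d hd⟩
    have heq := Subgroup.eq_of_le_of_card_ge hle (by
      rw [card_twoPointGroup T hnc hnn hC hu huH, card_twoPointGroup T hnc hnn hC hi hiH])
    intro d; rw [heq]
  have huN : ∀ d ∈ twoPointGroup T u, u * d * u⁻¹ = d⁻¹ :=
    fun d hd => inverts_twoPointGroup T hnc hnn hC hu huH hd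
  have hiN : ∀ d ∈ twoPointGroup T u, i * d * i⁻¹ = d⁻¹ :=
    fun d hd => inverts_twoPointGroup T hnc hnn hC hi hiH ((hDD d).1 hd)
  -- the point `i u H` is fixed by `D` as well
  have huiH : u⁻¹ * i ∉ sylowNorm T := fun h => hne (by
    simpa [mul_assoc] using Subgroup.mul_mem _ h (Subgroup.inv_mem _ hgi))
  have hprodcomm : ∀ d ∈ twoPointGroup T u, (i * u) * d * (i * u)⁻¹ = d := by
    intro d hd
    calc (i * u) * d * (i * u)⁻¹ = i * (u * d * u⁻¹) * i⁻¹ := by group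
      _ = d := by rw [huN d hd, hiN _ (Subgroup.inv_mem _ hd), inv_inv]
  have hiuH : i * u ∉ sylowNorm T := by
    intro h
    apply huiH
    have h' := Subgroup.inv_mem _ h
    rwa [mul_inv_rev, invo_inv hi] at h'
  obtain ⟨j, hj, hgj, hjH⟩ := exists_invo_coset T hnc hnn hC hiuH
  have hcard : Nat.card {x : G // orderOf x = 2 ∧ (i * u)⁻¹ * x ∈ sylowNorm T} =
      Nat.card (twoPointGroup T u) :=
    (card_coset_invo (isStronglyEmbedded_normalizer T hnc hnn hC) hiuH).trans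
      (card_twoPointGroup T hnc hnn hC hu huH).symm
  have hmem : ∀ x : G, orderOf x = 2 → (i * u)⁻¹ * x ∈ sylowNorm T →
      (i * u)⁻¹ * x ∈ twoPointGroup T u ∧ ∀ d ∈ twoPointGroup T u, x * d * x⁻¹ = d⁻¹ := by
    intro x hx hxH
    have hxH' : x ∉ sylowNorm T := fun h => hiuH (by
      simpa using Subgroup.mul_mem _ h (Subgroup.inv_mem _ hxH))
    have hle : twoPointGroup T u ≤ twoPointGroup T x := fun d hd =>
      (mem_twoPointGroup_congr T hxH).2 ⟨hd.1, by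
        rw [show (i * u)⁻¹ * d * (i * u) = d from by
          conv_lhs => rw [← hprodcomm d hd]
          group]
        exact hd.1⟩
    have heq := Subgroup.eq_of_le_of_card_ge hle (by
      rw [card_twoPointGroup T hnc hnn hC hu huH, card_twoPointGroup T hnc hnn hC hx hxH'])
    have hinvx : ∀ d ∈ twoPointGroup T u, x * d * x⁻¹ = d⁻¹ := fun d hd =>
      inverts_twoPointGroup T hnc hnn hC hx hxH' (heq ▸ hd)
    refine ⟨mem_twoPointGroup_of_mem_normalizer T hnc hnn hC hu huH ?_ hxH, hinvx⟩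
    rw [Subgroup.mem_normalizer_iff]
    have hconj : ∀ d ∈ twoPointGroup T u, ((i * u)⁻¹ * x) * d * ((i * u)⁻¹ * x)⁻¹ = d⁻¹ := by
      intro d hd
      calc ((i * u)⁻¹ * x) * d * ((i * u)⁻¹ * x)⁻¹
          = (i * u)⁻¹ * (x * d * x⁻¹) * (i * u) := by group
        _ = d⁻¹ := by
          rw [hinvx d hd]
          conv_lhs => rw [← hprodcomm _ (Subgroup.inv_mem _ hd)]
          group
    intro d
    refine ⟨fun hd => by rw [hconj d hd]; exact Subgroup.inv_mem _ hd, fun hd => ?_⟩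
    have := hconj _ hd
    generalize ((i * u)⁻¹ * x) = y at this hd
    have e : d = (y * d * y⁻¹)⁻¹ := by
      calc d = y⁻¹ * (y * d * y⁻¹) * y := by group
        _ = y⁻¹ * (y * (y * d * y⁻¹) * y⁻¹)⁻¹ * y := by rw [this, inv_inv]
        _ = (y * d * y⁻¹)⁻¹ := by group
    rw [e]; exact Subgroup.inv_mem _ hd
  let f : {x : G // orderOf x = 2 ∧ (i * u)⁻¹ * x ∈ sylowNorm T} → twoPointGroup T u := fun x =>
    ⟨_, (hmem x.1 x.2.1 x.2.2).1⟩
  obtain ⟨⟨x, hx, hxH⟩, hx1⟩ := ((Nat.bijective_iff_injective_and_card f).2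
    ⟨fun a b h => Subtype.ext (mul_left_cancel (congrArg Subtype.val h)), hcard⟩).2 1
  have hxe : x = i * u := (inv_mul_eq_one.1 (congrArg Subtype.val hx1 :)).symm
  obtain ⟨d, hd, hd1⟩ := two_le_twoPointGroup T hnc hnn hC hu huH
  have hsq : d = d⁻¹ := by
    rw [← (hmem x hx hxH).2 d hd, hxe, hprodcomm d hd]
  have h2 : orderOf d = 2 := invo_of_sq hd1 (by
    nth_rewrite 2 [hsq]; exact mul_inv_cancel d)
  exact hd1 (inf_sylow_eq_one T hnc hnn hC huH hd ((invo_mem_normalizer_iff T h2).1 hd.1))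

theorem exists_mul_coset {u g : G} (hu : orderOf u = 2) (huH : u ∉ sylowNorm T)
    (hg : g ∉ sylowNorm T) : ∃ x ∈ (T : Subgroup G), (x * u)⁻¹ * g ∈ sylowNorm T := by
  obtain ⟨i, hi, hgi, hiH⟩ := exists_invo_coset T hnc hnn hC hg
  obtain ⟨x, hx, hxD⟩ := exists_conj_eq_twoPointGroup T hnc hnn hC hu huH hi hiH
  refine ⟨x, hx, ?_⟩
  have hxg : x⁻¹ * g ∉ sylowNorm T := fun h => hg (by
    have h' : x * (x⁻¹ * g) ∈ sylowNorm T := Subgroup.mul_mem _ (Subgroup.le_normalizer hx) h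
    rwa [mul_inv_cancel_left] at h')
  have := eq_of_fixed T hnc hnn hC hu huH hxg fun d hd => by
    rw [show (x⁻¹ * g)⁻¹ * d * (x⁻¹ * g) = g⁻¹ * (x * d * x⁻¹) * g by group]
    exact ((mem_twoPointGroup_congr T hgi).1 (hxD d hd)).2
  rwa [mul_inv_rev, mul_assoc]

theorem eq_of_mul_coset {u x y : G} (huH : u ∉ sylowNorm T) (hx : x ∈ (T : Subgroup G))
    (hy : y ∈ (T : Subgroup G)) (h : (x * u)⁻¹ * (y * u) ∈ sylowNorm T) : x = y := by
  have hxy := Subgroup.mul_mem _ (Subgroup.inv_mem _ hx) hy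
  refine inv_mul_eq_one.1 (inf_sylow_eq_one T hnc hnn hC huH
    ((mem_twoPointGroup_iff T).2 ⟨Subgroup.le_normalizer hxy, ?_⟩) hxy)
  simpa [mul_assoc] using h

end Cfsg.Agent.Lib.SECount
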