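import Mathlib

/-!
An abelian group with a commutative group of automorphisms transitive on the nonidentity elements
is the additive group of a field in which these automorphisms are multiplications.
-/

set_option autoImplicit false

namespace Cfsg.Agent.Lib.SECount

universe u

theorem exists_field_of_transitive {A : Type u} [CommGroup A] [Finite A] (D : Subgroup (MulAut A))
    (hD : ∀ d ∈ D, ∀ e ∈ D, d * e = e * d) (htrans : ∀ x y : A, x ≠ 1 → y ≠ 1 → ∃ d ∈ D, d x = y)
    (t₀ : A) (ht₀ : t₀ ≠ 1) :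
    ∃ (F : Type u) (_ : Field F) (τ : F ≃ A), (∀ a b, τ (a + b) = τ a * τ b) ∧ τ 1 = t₀ ∧
      (∀ d ∈ D, ∃ c : Fˣ, ∀ a, d (τ a) = τ (c * a)) ∧
      ∀ c : Fˣ, ∃ d ∈ D, ∀ a, d (τ a) = τ (c * a) := by
  classical
  choose δ hδD hδ using fun x : {x : A // x ≠ 1} => htrans t₀ x.1 ht₀ x.2
  let L : A → (A →* A) := fun x => if h : x = 1 then 1 else (δ ⟨x, h⟩).toMonoidHom
  have hmon : ∀ d ∈ D, ∀ e ∈ D, d t₀ = e t₀ → ∀ y, d y = e y := by
    intro d hd e he h y
    by_cases hy : y = 1
    · simp [hy]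
    · obtain ⟨f, hf, rfl⟩ := htrans t₀ y ht₀ hy
      calc d (f t₀) = (d * f) t₀ := rfl
        _ = f (d t₀) := by rw [hD d hd f hf]; rfl
        _ = f (e t₀) := by rw [h]
        _ = (e * f) t₀ := by rw [hD e he f hf]; rfl
        _ = e (f t₀) := rfl
  have hL1 : ∀ y, L 1 y = 1 := fun y => by simp [L]
  have hLt : ∀ x, L x t₀ = x := by
    intro x
    by_cases h : x = 1
    · simp [L, h]
    · simp [L, h, hδ ⟨x, h⟩]
  have hLd : ∀ d ∈ D, ∀ y, L (d t₀) y = d y := by
    intro d hd y
    have hne : d t₀ ≠ 1 := fun h => ht₀ (d.injective (by simpa using h))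
    have h : L (d t₀) y = δ ⟨d t₀, hne⟩ y := by simp [L, hne]
    rw [h]
    exact hmon _ (hδD _) d hd (hδ _) y
  have hsurj : ∀ x : A, x ≠ 1 → ∃ d ∈ D, x = d t₀ := fun x hx => by
    obtain ⟨d, hd, h⟩ := htrans t₀ x ht₀ hx
    exact ⟨d, hd, h.symm⟩
  have hcomm : ∀ x y, L x y = L y x := by
    intro x y
    by_cases hx : x = 1
    · rw [hx, hL1, map_one]
    by_cases hy : y = 1
    · rw [hy, hL1, map_one]
    obtain ⟨d, hd, rfl⟩ := hsurj x hx
    obtain ⟨e, he, rfl⟩ := hsurj y hy
    rw [hLd d hd, hLd e he]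
    exact DFunLike.congr_fun (hD d hd e he) t₀
  have hassoc : ∀ x y z, L (L x y) z = L x (L y z) := by
    intro x y z
    by_cases hx : x = 1
    · simp [hx, hL1]
    by_cases hy : y = 1
    · simp [hy, hL1]
    obtain ⟨d, hd, rfl⟩ := hsurj x hx
    obtain ⟨e, he, rfl⟩ := hsurj y hy
    rw [hLd d hd, hLd d hd, hLd e he, show d (e t₀) = (d * e) t₀ from rfl,
      hLd _ (D.mul_mem hd he)]
    rfl
  letI hR : CommRing (Additive A) :=
    { (inferInstance : AddCommGroup (Additive A)) with
      mul := fun a b => Additive.ofMul (L a.toMul b.toMul)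
      one := Additive.ofMul t₀
      mul_assoc := fun a b c => congrArg Additive.ofMul (hassoc _ _ _)
      one_mul := fun a => congrArg Additive.ofMul ((hcomm _ _).trans (hLt _))
      mul_one := fun a => congrArg Additive.ofMul (hLt _)
      zero_mul := fun a => congrArg Additive.ofMul (hL1 _)
      mul_zero := fun a => congrArg Additive.ofMul (map_one _)
      left_distrib := fun a b c => congrArg Additive.ofMul (map_mul _ _ _)
      right_distrib := fun a b c => congrArg Additive.ofMul (by
        show L (a.toMul * b.toMul) c.toMul = L a.toMul c.toMul * L b.toMul c.toMul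
        rw [hcomm, map_mul, hcomm c.toMul, hcomm c.toMul])
      mul_comm := fun a b => congrArg Additive.ofMul (hcomm _ _) }
  have hfield : IsField (Additive A) :=
    { exists_pair_ne := ⟨Additive.ofMul t₀, 0, fun h => ht₀ h⟩
      mul_comm := mul_comm
      mul_inv_cancel := fun {a} ha => by
        obtain ⟨d, hd, he⟩ := hsurj a.toMul (fun h => ha h)
        refine ⟨Additive.ofMul (d⁻¹ t₀), congrArg Additive.ofMul (?_ : L a.toMul (d⁻¹ t₀) = t₀)⟩
        rw [he, hLd d hd]
        exact d.apply_symm_apply t₀ }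
  letI hF : Field (Additive A) := hfield.toField
  refine ⟨Additive A, hF, Additive.toMul, fun a b => rfl, rfl, fun d hd => ?_, fun c => ?_⟩
  · have hne : (Additive.ofMul (d t₀) : Additive A) ≠ 0 := fun h =>
      ht₀ (d.injective ((Additive.ofMul.injective h).trans (map_one d).symm))
    exact ⟨Units.mk0 _ hne, fun a => (hLd d hd _).symm⟩
  · obtain ⟨d, hd, he⟩ := hsurj (Additive.toMul (c : Additive A)) (fun h => c.ne_zero h)
    refine ⟨d, hd, fun a => ?_⟩
    show d (Additive.toMul a) = L (Additive.toMul (c : Additive A)) (Additive.toMul a)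
    rw [he, hLd d hd]

end Cfsg.Agent.Lib.SECount
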