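import Mathlib
import Cfsg.Agent.Lib.SECount.ElemAbPerm
import Cfsg.Agent.Lib.SECount.TransitiveField
import Cfsg.Agent.Lib.LinGroup.ProjLine
import Cfsg.Agent.Lib.SL2.Orders

/-!
A group with noncyclic non-normal Sylow 2-subgroup `T` and elementary abelian involution
centralizers is `SL(2, F)`, `|F| = |T|`.
-/

set_option autoImplicit false

namespace Cfsg.Agent.Lib.SECount

open scoped LinearAlgebra.Projectivization MatrixGroups
open LinGroup

universe u

theorem projLine_cases {F : Type*} [Field F] (x : ℙ F (Fin 2 → F)) :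
    x = linePt 1 0 (.inl one_ne_zero) ∨ ∃ a : F, x = linePt a 1 (.inr one_ne_zero) := by
  obtain ⟨a, b, h, rfl⟩ := exists_linePt x
  by_cases hb : b = 0
  · exact .inl ((linePt_eq_iff _ _).2 (by simp [hb]))
  · exact .inr ⟨a / b, (linePt_eq_iff _ _).2 (by field_simp)⟩

theorem smul_eq_linePt {F : Type*} [Field F] (M : SL(2, F)) {a b c d : F} (h : a ≠ 0 ∨ b ≠ 0)
    (h' : c ≠ 0 ∨ d ≠ 0) :
    M • linePt a b h = linePt c d h' ↔
      (M 0 0 * a + M 0 1 * b) * d = (M 1 0 * a + M 1 1 * b) * c := by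
  rw [← toPGL_smul]
  exact smul_linePt_eq (g := Matrix.SpecialLinearGroup.toGL M) h h'

theorem exists_sl_mulEquiv {G : Type u} [Group G] [Finite G] (T : Sylow 2 G)
    (hnc : ¬ IsCyclic (T : Subgroup G)) (hnn : ¬ (T : Subgroup G).Normal)
    (hC : ElemCentralizers G) :
    ∃ (F : Type u) (_ : Field F) (_ : Fintype F), CharP F 2 ∧ Fintype.card F = Nat.card T ∧
      Nonempty (G ≃* SL(2, F)) := by
  classical
  have hH := isStronglyEmbedded_normalizer T hnc hnn hC
  obtain ⟨u, hu, huH⟩ := exists_invo_not_mem hH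
  obtain ⟨t₀, ht₀, ht₀H⟩ := exists_invo_mem hH
  set H := sylowNorm T with hHdef
  set D := twoPointGroup T u with hDdef
  have ht₀T : t₀ ∈ (T : Subgroup G) := (invo_mem_normalizer_iff T ht₀).1 ht₀H
  letI : CommGroup (T : Subgroup G) :=
    { (T : Subgroup G).toGroup with
      mul_comm := fun a b => Subtype.ext ((sylow_elemAb T hC).1 a a.2 b b.2) }
  let ι : D →* MulAut (T : Subgroup G) :=
    (Subgroup.normalizerMonoidHom (T : Subgroup G)).comp (Subgroup.inclusion inf_le_left)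
  have hι : ∀ (d : D) (x : (T : Subgroup G)),
      ((ι d x : (T : Subgroup G)) : G) = (d : G) * x * (d : G)⁻¹ := fun d x => rfl
  have hTinv : ∀ x : (T : Subgroup G), x ≠ 1 → orderOf (x : G) = 2 := fun x hx =>
    orderOf_eq_two_of_mem T hC x.2 fun h => hx (Subtype.ext h)
  have hne0 : (⟨t₀, ht₀T⟩ : (T : Subgroup G)) ≠ 1 := fun h =>
    invo_ne_one ht₀ (congrArg Subtype.val h)
  obtain ⟨F, hF, τ, hadd, hone, hDF, hFD⟩ := exists_field_of_transitive ι.range
    (by
      rintro _ ⟨d, rfl⟩ _ ⟨e, rfl⟩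
      rw [← map_mul, ← map_mul]
      exact congrArg ι (Subtype.ext (twoPointGroup_comm T hnc hnn hC hu huH d.2 e.2)))
    (fun x y hx hy => by
      obtain ⟨d, hd, hdxy⟩ := exists_conj_mem_inf hH hu huH (hTinv x hx)
        (Subgroup.le_normalizer x.2) (hTinv y hy) (Subgroup.le_normalizer y.2)
      exact ⟨ι ⟨d, hd⟩, ⟨_, rfl⟩, Subtype.ext hdxy⟩)
    ⟨t₀, ht₀T⟩ hne0
  haveI : Finite F := Finite.of_equiv _ τ.symm
  letI : Fintype F := Fintype.ofFinite F
  have hτ0 : τ 0 = 1 := by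
    have h := hadd 0 0
    rwa [add_zero, left_eq_mul] at h
  have h2 : (1 : F) + 1 = 0 := by
    apply τ.injective
    rw [hadd, hτ0, hone]
    exact Subtype.ext (invo_sq ht₀)
  haveI hchar : CharP F 2 :=
    CharTwo.of_one_ne_zero_of_two_eq_zero one_ne_zero (by rw [← one_add_one_eq_two, h2])
  -- the action on the cosets
  set o : G ⧸ H := QuotientGroup.mk 1 with ho
  set p : G ⧸ H := QuotientGroup.mk u with hp
  have hfix : ∀ g : G, g • o = o ↔ g ∈ H := fun g => by
    rw [ho, MulAction.Quotient.smul_mk, smul_eq_mul, QuotientGroup.eq]; simp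
  have hfixp : ∀ d ∈ D, d • p = p := fun d hd => by
    rw [hp, MulAction.Quotient.smul_mk, smul_eq_mul, QuotientGroup.eq, mul_inv_rev, mul_assoc]
    have h := ((mem_twoPointGroup_iff T).1 (D.inv_mem hd)).2
    rwa [mul_assoc] at h
  have huo : u • o = p := by rw [ho, hp, MulAction.Quotient.smul_mk, smul_eq_mul, mul_one]
  have hup : u • p = o := by
    rw [ho, hp, MulAction.Quotient.smul_mk, smul_eq_mul, invo_sq hu]
  have hpne : p ≠ o := fun h => huH ((hfix u).1 (huo.trans h))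
  have hTo : ∀ x : (T : Subgroup G), (x : G) • o = o := fun x =>
    (hfix _).2 (Subgroup.le_normalizer x.2)
  let ψ : F → G ⧸ H := fun a => (τ a : G) • p
  have hψne : ∀ a, ψ a ≠ o := fun a h => hpne (smul_left_cancel _ (h.trans (hTo (τ a)).symm))
  have hψinj : Function.Injective ψ := by
    intro a b h
    simp only [ψ, hp, MulAction.Quotient.smul_mk, smul_eq_mul, QuotientGroup.eq] at h
    exact τ.injective (Subtype.ext (eq_of_mul_coset T hnc hnn hC huH (τ a).2 (τ b).2 h))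
  have hψsurj : ∀ z, z ≠ o → ∃ a, ψ a = z := by
    intro z hz
    obtain ⟨g, rfl⟩ := QuotientGroup.mk_surjective z
    obtain ⟨x, hx, hxg⟩ := exists_mul_coset T hnc hnn hC hu huH (g := g) fun h => hz (by
      rw [ho, QuotientGroup.eq]; simpa using H.inv_mem h)
    refine ⟨τ.symm ⟨x, hx⟩, ?_⟩
    show (τ (τ.symm ⟨x, hx⟩) : G) • p = _
    rw [Equiv.apply_symm_apply, hp, MulAction.Quotient.smul_mk, smul_eq_mul, QuotientGroup.eq]
    exact hxg
  have hψadd : ∀ a b, (τ b : G) • ψ a = ψ (a + b) := fun a b => by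
    show _ • _ • p = _ • p
    rw [← mul_smul, ← Subgroup.coe_mul, ← hadd, add_comm]
  have hδ : ∀ c : Fˣ, ∃ d ∈ D, ∀ a, d • ψ a = ψ (c * a) := by
    intro c
    obtain ⟨_, ⟨d, rfl⟩, hd⟩ := hFD c
    refine ⟨d, d.2, fun a => ?_⟩
    show (d : G) • (τ a : G) • p = (τ _ : G) • p
    rw [← hd a, hι, mul_smul, mul_smul, hfixp _ (D.inv_mem d.2)]
  choose δ hδD hδψ using hδ
  have hDψ : ∀ d ∈ D, ∃ c : Fˣ, ∀ a, d • ψ a = ψ (c * a) := by
    intro d hd
    obtain ⟨c, hc⟩ := hDF (ι ⟨d, hd⟩) ⟨_, rfl⟩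
    refine ⟨c, fun a => ?_⟩
    show d • (τ a : G) • p = (τ _ : G) • p
    rw [← hc a, hι, mul_smul, mul_smul, hfixp _ (D.inv_mem hd)]
  have hψ1 : u • ψ 1 ≠ o := fun h => by
    have h1 := smul_left_cancel u (h.trans hup.symm)
    exact one_ne_zero (hψinj (a₂ := 0) (h1.trans (by simp [ψ, hτ0])))
  obtain ⟨k, hk⟩ := hψsurj _ hψ1
  have hψ0 : ψ 0 = p := by simp [ψ, hτ0]
  have hk0 : k ≠ 0 := by
    rintro rfl
    rw [hψ0] at hk
    exact hψne 1 (smul_left_cancel u (hk.symm.trans huo.symm))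
  have huδ : ∀ c : Fˣ, u * δ c = (δ c)⁻¹ * u := fun c => by
    rw [← mul_inv_eq_iff_eq_mul, inverts_twoPointGroup T hnc hnn hC hu huH (hδD c)]
  have huψ : ∀ c : Fˣ, u • ψ c = ψ (k * (c⁻¹ : Fˣ)) := by
    intro c
    have h1 : ψ (c : F) = δ c • ψ 1 := by rw [hδψ, mul_one]
    rw [h1, ← mul_smul, huδ, mul_smul, ← hk]
    rw [inv_smul_eq_iff, hδψ]
    congr 1
    rw [mul_comm k, Units.mul_inv_cancel_left]
  set w := u * δ (Units.mk0 k hk0) with hw
  have hwψ : ∀ c : Fˣ, w • ψ c = ψ (c⁻¹ : Fˣ) := fun c => by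
    rw [hw, mul_smul, hδψ, show (Units.mk0 k hk0 : F) * (c : F) = ((Units.mk0 k hk0 * c : Fˣ) : F)
      from rfl, huψ]
    congr 1
    simp [hk0, mul_comm]
  have hwo : w • o = p := by
    rw [hw, mul_smul, (hfix _).2 (hδD _).1, huo]
  have hwp : w • p = o := by rw [hw, mul_smul, hfixp _ (hδD _), hup]
  -- transfer to the projective line
  let π : ℙ F (Fin 2 → F) → G ⧸ H := fun z =>
    if h : ∃ a : F, z = linePt a 1 (.inr one_ne_zero) then ψ h.choose else o
  have hπa : ∀ a, π (linePt a 1 (.inr one_ne_zero)) = ψ a := by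
    intro a
    have h : ∃ b : F, linePt a 1 (.inr one_ne_zero) = linePt b 1 (.inr one_ne_zero) := ⟨a, rfl⟩
    simp only [π, dif_pos h]
    have h3 := (linePt_eq_iff _ _).1 h.choose_spec
    rw [mul_one, one_mul] at h3
    rw [← h3]
  have hπinf : π (linePt 1 0 (.inl one_ne_zero)) = o := by
    simp only [π]
    rw [dif_neg]
    rintro ⟨a, h⟩
    simpa using (linePt_eq_iff _ _).1 h
  have hπbij : Function.Bijective π := by
    refine ⟨fun x y h => ?_, fun z => ?_⟩
    · rcases projLine_cases x with rfl | ⟨a, rfl⟩ <;> rcases projLine_cases y with rfl | ⟨b, rfl⟩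
      · rfl
      · rw [hπinf, hπa] at h; exact absurd h.symm (hψne b)
      · rw [hπinf, hπa] at h; exact absurd h (hψne a)
      · rw [hπa, hπa] at h; rw [hψinj h]
    · by_cases hz : z = o
      · exact ⟨_, hπinf.trans hz.symm⟩
      · obtain ⟨a, rfl⟩ := hψsurj z hz
        exact ⟨_, hπa a⟩
  let e := Equiv.ofBijective π hπbij
  let ρ : G →* Equiv.Perm (ℙ F (Fin 2 → F)) :=
    e.symm.permCongrHom.toMonoidHom.comp (MulAction.toPermHom G (G ⧸ H))
  let σ : SL(2, F) →* Equiv.Perm (ℙ F (Fin 2 → F)) := MulAction.toPermHom _ _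
  have hρ : ∀ g z, π (ρ g z) = g • π z := fun g z => by
    show e (e.symm (g • e z)) = g • e z
    exact e.apply_symm_apply _
  have hmatch : ∀ g : G, ∀ M : SL(2, F),
      (∀ z, π (M • z) = g • π z) → g ∈ σ.range.comap ρ := fun g M h =>
    ⟨M, Equiv.ext fun z => hπbij.1 ((h z).trans (hρ g z).symm)⟩
  have hgenT : ∀ x ∈ (T : Subgroup G), x ∈ σ.range.comap ρ := by
    intro x hx
    obtain ⟨b, hb⟩ : ∃ b, (τ b : G) = x := ⟨τ.symm ⟨x, hx⟩, by rw [Equiv.apply_symm_apply]⟩
    refine hmatch x (SL2.upper b) fun z => ?_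
    rcases projLine_cases z with rfl | ⟨a, rfl⟩
    · rw [(smul_eq_linePt (c := 1) (d := 0) (SL2.upper b) _ (.inl one_ne_zero)).2 (by simp), hπinf, ← hb, hTo]
    · rw [(smul_eq_linePt (SL2.upper b) _ (Or.inr one_ne_zero : a + b ≠ 0 ∨ _)).2 (by simp),
        hπa, hπa, ← hb, hψadd]
  have hgenD : ∀ d ∈ D, d ∈ σ.range.comap ρ := by
    intro d hd
    obtain ⟨c, hc⟩ := hDψ d hd
    obtain ⟨s, hs⟩ := FiniteField.isSquare_of_char_two (ringChar.eq F 2 |>.symm ▸ rfl) (c : F)
    have hs0 : s ≠ 0 := fun h => c.ne_zero (by rw [hs, h, mul_zero])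
    refine hmatch d (SL2.diag (Units.mk0 s hs0)) fun z => ?_
    rcases projLine_cases z with rfl | ⟨a, rfl⟩
    · rw [(smul_eq_linePt (c := 1) (d := 0) _ _ (.inl one_ne_zero)).2 (by simp), hπinf, (hfix _).2 hd.1]
    · rw [(smul_eq_linePt _ _ (Or.inr one_ne_zero : (c : F) * a ≠ 0 ∨ _)).2 (by
        simp [hs]; field_simp), hπa, hπa, hc]
  have hgenw : w ∈ σ.range.comap ρ := by
    refine hmatch w SL2.weyl fun z => ?_
    have hm1 : (-1 : F) = 1 := by linear_combination -h2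
    rcases projLine_cases z with rfl | ⟨a, rfl⟩
    · rw [(smul_eq_linePt _ _ (.inr one_ne_zero : (0 : F) ≠ 0 ∨ _)).2 (by simp), hπinf, hπa, hwo,
        hψ0]
    · by_cases ha : a = 0
      · subst ha
        rw [(smul_eq_linePt (c := 1) (d := 0) _ _ (.inl one_ne_zero)).2 (by simp), hπinf, hπa, hψ0, hwp]
      · rw [(smul_eq_linePt _ _ (Or.inr one_ne_zero : a⁻¹ ≠ 0 ∨ _)).2 (by simp [hm1, ha]),
          hπa, hπa]
        have := hwψ (Units.mk0 a ha)
        simpa using this.symm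
  have hgenH : ∀ h ∈ H, h ∈ σ.range.comap ρ := fun h hh => by
    obtain ⟨d, hd, a, ha, rfl⟩ := exists_decomp T hnc hnn hC hu huH hh
    exact mul_mem (hgenD d hd) (hgenT a ha)
  have hgen : ∀ g : G, g ∈ σ.range.comap ρ := by
    intro g
    by_cases hg : g ∈ H
    · exact hgenH g hg
    obtain ⟨x, hx, hxg⟩ := exists_mul_coset T hnc hnn hC hu huH hg
    have hwu : w⁻¹ * x⁻¹ * g ∈ H := by
      rw [show w⁻¹ * x⁻¹ * g = (δ (Units.mk0 k hk0))⁻¹ * ((x * u)⁻¹ * g) by rw [hw]; group]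
      exact H.mul_mem (H.inv_mem (hδD _).1) hxg
    rw [show g = x * (w * (w⁻¹ * x⁻¹ * g)) by group]
    exact mul_mem (hgenT x hx) (mul_mem hgenw (hgenH _ hwu))
  have hρinj : Function.Injective ρ := by
    rw [injective_iff_map_eq_one]
    intro g hg
    have hall : ∀ z, g • π z = π z := fun z => by rw [← hρ, hg]; rfl
    have hall' : ∀ z, g • z = z := fun z => by
      obtain ⟨y, rfl⟩ := hπbij.2 z; exact hall y
    have hgH : g ∈ H := (hfix g).1 (hall' o)
    have hgD : g ∈ D := by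
      refine (mem_twoPointGroup_iff T).2 ⟨hgH, ?_⟩
      have h3 := hall' p
      rw [hp, MulAction.Quotient.smul_mk, smul_eq_mul, QuotientGroup.eq] at h3
      have h4 := H.inv_mem h3
      rwa [mul_inv_rev, inv_inv, ← mul_assoc] at h4
    have h5 := hall' (ψ 1)
    have h6 : g * (τ 1 : G) * g⁻¹ = (τ 1 : G) := by
      refine eq_of_mul_coset T hnc hnn hC huH
        ((Subgroup.mem_normalizer_iff.1 hgD.1 _).1 (τ 1).2) (τ 1).2 ?_
      have h7 : (g * (τ 1 : G) * g⁻¹) • p = (τ 1 : G) • p := by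
        rw [mul_smul, mul_smul, hfixp _ (D.inv_mem hgD)]; exact h5
      rw [hp, MulAction.Quotient.smul_mk, MulAction.Quotient.smul_mk, smul_eq_mul, smul_eq_mul,
        QuotientGroup.eq] at h7
      exact h7
    refine inf_sylow_eq_one T hnc hnn hC huH hgD ?_
    rw [← centralizer_eq_sylow T hC ht₀ ht₀T, Subgroup.mem_centralizer_singleton_iff]
    rw [hone] at h6
    exact mul_inv_eq_iff_eq_mul.1 h6
  have hσinj : Function.Injective σ := by
    rw [injective_iff_map_eq_one]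
    intro M hM
    have hall : ∀ z : ℙ F (Fin 2 → F), M • z = z := fun z => DFunLike.congr_fun hM z
    have e1 := (smul_eq_linePt M (Or.inl one_ne_zero : (1 : F) ≠ 0 ∨ (0 : F) ≠ 0) _).1 (hall _)
    have e2 := (smul_eq_linePt M (Or.inr one_ne_zero : (0 : F) ≠ 0 ∨ (1 : F) ≠ 0) _).1 (hall _)
    have e3 := (smul_eq_linePt M (Or.inl one_ne_zero : (1 : F) ≠ 0 ∨ (1 : F) ≠ 0) _).1 (hall _)
    simp only [mul_zero, mul_one, add_zero, zero_add] at e1 e2 e3
    have hdet := SL2.det_entries M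
    rw [← e1, e2] at e3 hdet
    have h00 : M 0 0 = M 1 1 := by linear_combination e3
    have h1 : M 0 0 = 1 := by
      have h3 : (M 0 0 + 1) * (M 0 0 + 1) = 0 := by
        rw [← h00] at hdet
        linear_combination hdet + (M 0 0 + 1) * h2
      have h4 := mul_self_eq_zero.1 h3
      linear_combination h4 - h2
    refine SL2.ext_entries ?_ ?_ ?_ ?_
    · simpa using h1
    · simpa using e2
    · simpa using e1.symm
    · simpa [← h00] using h1
  -- the homomorphism to SL(2,F), and the orders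
  let f : G →* SL(2, F) :=
    ((MonoidHom.ofInjective hσinj).symm.toMonoidHom).comp (ρ.codRestrict σ.range hgen)
  have hfinj : Function.Injective f :=
    (MonoidHom.ofInjective hσinj).symm.injective.comp
      (fun a b h => hρinj (congrArg Subtype.val h))
  have hqT : Fintype.card F = Nat.card T := by
    rw [← Nat.card_eq_fintype_card, Nat.card_congr τ]
  refine ⟨F, hF, inferInstance, hchar, hqT, ⟨MulEquiv.ofBijective f
    ((Nat.bijective_iff_injective_and_card f).2 ⟨hfinj, ?_⟩)⟩⟩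
  -- compare orders
  have hidx : H.index = Fintype.card F + 1 := by
    rw [Subgroup.index_eq_card, ← Nat.card_congr e]
    exact LinGroup.card_projLine
  have hcardH : Nat.card H = Fintype.card F * (Fintype.card F - 1) := by
    let m : D × (T : Subgroup G) → H := fun x =>
      ⟨x.1 * x.2, H.mul_mem x.1.2.1 (Subgroup.le_normalizer x.2.2)⟩
    have hm : Function.Bijective m := by
      refine ⟨?_, fun h => ?_⟩
      · rintro ⟨d, a⟩ ⟨d', a'⟩ h
        have h' : (d : G) * a = (d' : G) * a' := congrArg Subtype.val h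
        have hmem : (d' : G)⁻¹ * d ∈ (T : Subgroup G) := by
          rw [show (d' : G)⁻¹ * d = a' * (a : G)⁻¹ by
            rw [inv_mul_eq_iff_eq_mul, ← mul_assoc, eq_mul_inv_iff_mul_eq, h']]
          exact mul_mem a'.2 (inv_mem a.2)
        have hd : d' = d := Subtype.ext (inv_mul_eq_one.1
          (inf_sylow_eq_one T hnc hnn hC huH (D.mul_mem (D.inv_mem d'.2) d.2) hmem))
        subst hd
        rw [Prod.mk.injEq]
        exact ⟨rfl, Subtype.ext (mul_left_cancel h')⟩
      · obtain ⟨d, hd, a, ha, hh⟩ := exists_decomp T hnc hnn hC hu huH h.2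
        exact ⟨(⟨d, hd⟩, ⟨a, ha⟩), Subtype.ext hh.symm⟩
    rw [← Nat.card_eq_of_bijective m hm, Nat.card_prod, hqT, hDdef,
      card_twoPointGroup T hnc hnn hC hu huH, card_invo_norm T hnc hnn hC]
    ring
  rw [← H.card_mul_index, hidx, hcardH, SL2.card_SLtwo]
  have hq1 : 1 ≤ Fintype.card F := Fintype.card_pos
  obtain ⟨r, hr⟩ : ∃ r, Fintype.card F = r + 1 := ⟨Fintype.card F - 1, by omega⟩
  rw [hr, Nat.add_sub_cancel,
    show (r + 1) ^ 2 - 1 = r * (r + 2) from Nat.sub_eq_of_eq_add (by ring)]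
  ring

end Cfsg.Agent.Lib.SECount
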