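import Mathlib

/-!
Groups without a subgroup of index 2: every 2-element lies in the commutator subgroup.
-/

set_option autoImplicit false

namespace Cfsg.Agent.Lib.SECount

/-- A finite abelian group of even order has a subgroup of index 2. -/
theorem exists_index_two_of_even_commGroup {A : Type*} [CommGroup A] [Finite A]
    (h : 2 ∣ Nat.card A) : ∃ B : Subgroup A, B.index = 2 := by
  haveI : Fact (Nat.Prime 2) := ⟨Nat.prime_two⟩
  set R := (powMonoidHom 2 : A →* A).range with hR
  have hp : IsPGroup 2 (A ⧸ R) := fun x => ⟨1, by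
    induction x using QuotientGroup.induction_on with
    | _ a =>
      rw [pow_one, ← QuotientGroup.mk_pow, QuotientGroup.eq_one_iff]
      exact ⟨a, rfl⟩⟩
  obtain ⟨n, hn⟩ := IsPGroup.iff_card.1 hp
  have hn0 : n ≠ 0 := by
    rintro rfl
    obtain ⟨a, ha⟩ := exists_prime_orderOf_dvd_card' 2 h
    have htop : R = ⊤ := Subgroup.index_eq_one.1 (by rw [Subgroup.index_eq_card, hn, pow_zero])
    have hinj := Finite.injective_iff_surjective.2 (MonoidHom.range_eq_top.1 htop)
    have : a = 1 := hinj (by simp [← ha, pow_orderOf_eq_one])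
    simp [this] at ha
  obtain ⟨m, rfl⟩ : ∃ m, n = m + 1 := ⟨n - 1, by omega⟩
  obtain ⟨C, hC⟩ := Sylow.exists_subgroup_card_pow_prime 2 (G := A ⧸ R) (n := m)
    (by rw [hn]; exact pow_dvd_pow 2 (Nat.le_succ m))
  refine ⟨C.comap (QuotientGroup.mk' R), ?_⟩
  rw [Subgroup.index_comap_of_surjective _ (QuotientGroup.mk'_surjective R)]
  have h2 := C.card_mul_index
  rw [hC, hn, pow_succ] at h2
  exact Nat.eq_of_mul_eq_mul_left (by positivity) h2

/-- In a group without subgroups of index 2 all 2-subgroups lie in the commutator subgroup. -/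
theorem le_commutator_of_no_index_two {G : Type*} [Group G] [Finite G]
    (hG : ∀ H : Subgroup G, H.index ≠ 2) {S : Subgroup G} (hS : IsPGroup 2 S) :
    S ≤ commutator G := by
  intro x hx
  have hodd : ¬ 2 ∣ Nat.card (Abelianization G) := by
    intro h
    obtain ⟨B, hB⟩ := exists_index_two_of_even_commGroup h
    refine hG (B.comap Abelianization.of) ?_
    rwa [Subgroup.index_comap_of_surjective _ (show Function.Surjective
      (Abelianization.of : G → Abelianization G) from fun a => Quotient.exists_rep a)]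
  obtain ⟨k, hk⟩ := hS ⟨x, hx⟩
  have hxk : x ^ 2 ^ k = 1 := congrArg Subtype.val hk
  rw [← Abelianization.ker_of, MonoidHom.mem_ker, ← orderOf_eq_one_iff]
  have h2 : orderOf (Abelianization.of x) ∣ 2 ^ k :=
    orderOf_dvd_of_pow_eq_one (by rw [← map_pow, hxk, map_one])
  have h3 : Nat.Coprime (2 ^ k) (Nat.card (Abelianization G)) :=
    Nat.Coprime.pow_left k (Nat.prime_two.coprime_iff_not_dvd.2 hodd)
  exact Nat.eq_one_of_dvd_coprimes h3 h2 (orderOf_dvd_natCard _)

end Cfsg.Agent.Lib.SECount
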